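import Cfsg.Agent.TwoPrime63.Basic
import Cfsg.Agent.CIT.Main
import Cfsg.Agent.InvChar.UTFour
import Cfsg.Agent.Lib.LinearGroup.SmallPSL
import Cfsg.Agent.S0494

/-!
# Class sizes with at most two prime divisors: the CIT case

A simple CIT-group with three primes in its order and all class sizes divisible by at most two
of them is `A₅` or `PSL₂(8)`.
-/

set_option autoImplicit false
set_option linter.unusedSectionVars false
set_option linter.style.haveILetI false

namespace Cfsg.Agent.TwoPrime63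

open Agent.Ito7 (cent mem_cent self_mem_cent cent_le_pow)

universe u

theorem card_primeFactors_mul_coprime {a b : ℕ} (h : a.Coprime b) :
    (a * b).primeFactors.card = a.primeFactors.card + b.primeFactors.card := by
  rw [h.primeFactors_mul, Finset.card_union_of_disjoint h.disjoint_primeFactors]

theorem one_le_card_primeFactors {a : ℕ} (h : 1 < a) : 1 ≤ a.primeFactors.card :=
  Finset.card_pos.2 (Nat.nonempty_primeFactors.2 h)

theorem four_le_card_primeFactors {a b c d : ℕ} (ha : 1 < a) (hb : 1 < b) (hc : 1 < c) (hd : 1 < d)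
    (hab : a.Coprime b) (hac : a.Coprime c) (had : a.Coprime d) (hbc : b.Coprime c)
    (hbd : b.Coprime d) (hcd : c.Coprime d) : 4 ≤ (a * b * c * d).primeFactors.card := by
  rw [card_primeFactors_mul_coprime ((had.mul_left hbd).mul_left hcd),
    card_primeFactors_mul_coprime (hac.mul_left hbc), card_primeFactors_mul_coprime hab]
  have h1 := one_le_card_primeFactors ha
  have h2 := one_le_card_primeFactors hb
  have h3 := one_le_card_primeFactors hc
  have h4 := one_le_card_primeFactors hd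
  omega

theorem three_pow_ne_succ {n j : ℕ} (hn : 4 ≤ n) : 3 ^ j ≠ 2 ^ n + 1 := by
  intro h
  obtain ⟨i, r, hr, rfl⟩ : ∃ i r, r < 4 ∧ j = 4 * i + r :=
    ⟨j / 4, j % 4, Nat.mod_lt _ (by norm_num), (Nat.div_add_mod j 4).symm⟩
  rw [pow_add, pow_mul] at h
  have h16 : (81 : ℕ) ^ i % 16 = 1 := by rw [Nat.pow_mod]; norm_num
  have h5 : (81 : ℕ) ^ i % 5 = 1 := by rw [Nat.pow_mod]; norm_num
  obtain ⟨m, rfl⟩ : ∃ m, n = m + 4 := ⟨n - 4, by omega⟩
  norm_num at h
  interval_cases r
  · have hd : 5 ∣ 2 ^ (m + 4) := by norm_num at h; omega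
    exact absurd (Nat.le_of_dvd (by norm_num) (Nat.prime_five.dvd_of_dvd_pow hd)) (by norm_num)
  all_goals (rw [pow_add] at h; norm_num at h; omega)

theorem three_pow_add_one_ne {n j : ℕ} (hn : 3 ≤ n) : 3 ^ j + 1 ≠ 2 ^ n := by
  intro h
  obtain ⟨m, rfl⟩ : ∃ m, n = m + 3 := ⟨n - 3, by omega⟩
  rcases Nat.even_or_odd' j with ⟨i, rfl | rfl⟩
  all_goals
    have h8 : (9 : ℕ) ^ i % 8 = 1 := by rw [Nat.pow_mod]; norm_num
    rw [pow_add (2 : ℕ)] at h
    norm_num [pow_add, pow_mul] at h
    omega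

/-- `2^n - 1`, `2^n` and `2^n + 1` have only three prime divisors for `n ≤ 3` only. -/
theorem four_le_of_two_pow {n : ℕ} (hn : 4 ≤ n) :
    4 ≤ (2 ^ n * ((2 ^ n) ^ 2 - 1)).primeFactors.card := by
  obtain ⟨A, hA⟩ : ∃ A, 2 ^ n = A + 1 := ⟨2 ^ n - 1, by have := Nat.one_le_two_pow (n := n); omega⟩
  have h16 : 16 ≤ 2 ^ n := le_trans (by norm_num) (Nat.pow_le_pow_right (by norm_num) hn)
  have heven : 2 ∣ 2 ^ n := dvd_pow_self 2 (by omega)
  have hsq : (2 ^ n) ^ 2 - 1 = A * (A + 2) := by
    rw [hA]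
    have : (A + 1) ^ 2 = A * (A + 2) + 1 := by ring
    omega
  have hA1 : A.Coprime (A + 2) := by
    rw [Nat.coprime_self_add_right]; exact Nat.coprime_two_right.2 (Nat.odd_iff.2 (by omega))
  have hA2 : Nat.Coprime (2 ^ n) (A * (A + 2)) :=
    Nat.Coprime.pow_left n (Nat.coprime_two_left.2 (Nat.odd_iff.2 (by
      rw [Nat.mul_mod]
      have e1 : A % 2 = 1 := by omega
      have e2 : (A + 2) % 2 = 1 := by omega
      rw [e1, e2])))
  rw [hsq, card_primeFactors_mul_coprime hA2, card_primeFactors_mul_coprime hA1,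
    Nat.primeFactors_prime_pow (by omega) Nat.prime_two, Finset.card_singleton]
  have hA' := one_le_card_primeFactors (show 1 < A by omega)
  have hB' := one_le_card_primeFactors (show 1 < A + 2 by omega)
  by_contra hlt
  have hcA : A.primeFactors.card = 1 := by omega
  have hcB : (A + 2).primeFactors.card = 1 := by omega
  obtain ⟨p, i, hp, hi, hAp⟩ :=
    (isPrimePow_nat_iff _).1 (isPrimePow_iff_card_primeFactors_eq_one.2 hcA)
  obtain ⟨p', i', hp', hi', hBp⟩ :=
    (isPrimePow_nat_iff _).1 (isPrimePow_iff_card_primeFactors_eq_one.2 hcB)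
  have h30 : 3 ∣ A ∨ 3 ∣ A + 2 ∨ 3 ∣ A + 1 := by
    rcases (show A % 3 = 0 ∨ A % 3 = 1 ∨ A % 3 = 2 by omega) with h | h | h
    exacts [Or.inl (Nat.dvd_of_mod_eq_zero h), Or.inr (Or.inl (Nat.dvd_of_mod_eq_zero (by omega))),
      Or.inr (Or.inr (Nat.dvd_of_mod_eq_zero (by omega)))]
  rcases h30 with h | h | h
  · rw [← hAp] at h
    obtain rfl := ((Nat.prime_dvd_prime_iff_eq Nat.prime_three hp).1
      (Nat.prime_three.dvd_of_dvd_pow h)).symm
    exact three_pow_add_one_ne (show 3 ≤ n by omega) (show 3 ^ i + 1 = 2 ^ n by omega)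
  · rw [← hBp] at h
    obtain rfl := ((Nat.prime_dvd_prime_iff_eq Nat.prime_three hp').1
      (Nat.prime_three.dvd_of_dvd_pow h)).symm
    exact three_pow_ne_succ hn (show 3 ^ i' = 2 ^ n + 1 by omega)
  · rw [← hA] at h
    exact absurd (Nat.le_of_dvd (by norm_num) (Nat.prime_three.dvd_of_dvd_pow h)) (by norm_num)

/-- The order of a Suzuki group has four prime divisors. -/
theorem four_le_suzuki {m : ℕ} (hm : 1 ≤ m) : 4 ≤
    ((2 ^ (2 * m + 1)) ^ 2 * ((2 ^ (2 * m + 1)) ^ 2 + 1) * (2 ^ (2 * m + 1) - 1)).primeFactors.card := by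
  obtain ⟨r, hr⟩ : ∃ r, r = 2 ^ m := ⟨_, rfl⟩
  have hr2 : 2 ≤ r := hr ▸ Nat.le_self_pow (by omega) 2
  have hq : 2 ^ (2 * m + 1) = 2 * r * r := by rw [hr, pow_succ, two_mul, pow_add]; ring
  obtain ⟨s, rfl⟩ : ∃ s, r = s + 1 := ⟨r - 1, by omega⟩
  -- the two factors of `q² + 1`
  set B := 2 * (s * (s + 1)) + 1 with hB
  set C := 2 * ((s + 1) * (s + 2)) + 1 with hC
  have hfac : (2 ^ (2 * m + 1)) ^ 2 + 1 = B * C := by rw [hq, hB, hC]; ring
  have hBo : Odd B := ⟨s * (s + 1), by rw [hB]⟩
  have hCo : Odd C := ⟨(s + 1) * (s + 2), by rw [hC]⟩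
  have hBC : B.Coprime C := by
    have : C = B + 2 ^ (m + 2) := by
      rw [pow_add, ← hr, hB, hC]; ring
    rw [this, Nat.coprime_self_add_right]
    exact Nat.Coprime.pow_right _ (Nat.coprime_two_right.2 hBo)
  set q := 2 ^ (2 * m + 1) with hqd
  have hq8 : 8 ≤ q := le_trans (by norm_num) (Nat.pow_le_pow_right (show 0 < 2 by norm_num)
    (show 3 ≤ 2 * m + 1 by omega))
  have heven : 2 ∣ q := dvd_pow_self 2 (by omega)
  have hD : (q ^ 2 + 1).Coprime (q - 1) := by
    refine Nat.coprime_of_dvd fun k hk h1 h2 => ?_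
    obtain ⟨A, hA⟩ : ∃ A, q = A + 1 := ⟨q - 1, by omega⟩
    rw [hA, show A + 1 - 1 = A by omega] at h2
    rw [hA] at h1
    have h3 : k ∣ 2 := by
      have : (A + 1) ^ 2 + 1 = A * (A + 2) + 2 := by ring
      rw [this] at h1
      exact (Nat.dvd_add_right (h2.mul_right _)).1 h1
    obtain rfl := (Nat.prime_dvd_prime_iff_eq hk Nat.prime_two).1 h3
    omega
  rw [hfac] at hD ⊢
  have hq2 : ∀ x : ℕ, Odd x → (q ^ 2).Coprime x := fun x hx => by
    rw [hqd, ← pow_mul]; exact Nat.Coprime.pow_left _ (Nat.coprime_two_left.2 hx)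
  have hB1 : 1 < B := by
    rw [hB]; have : 0 < s * (s + 1) := Nat.mul_pos (by omega) (by omega); omega
  have hC1 : 1 < C := by
    rw [hC]; have : 0 < (s + 1) * (s + 2) := Nat.mul_pos (by omega) (by omega); omega
  rw [← mul_assoc (q ^ 2) B C]
  exact four_le_card_primeFactors (Nat.one_lt_pow (by omega) (by omega)) hB1 hC1 (by omega)
        (hq2 B hBo) (hq2 C hCo) (hq2 (q - 1) (Nat.odd_iff.2 (by omega))) hBC
        hD.coprime_mul_right hD.coprime_mul_left

variable {F : Type} [Field F]

/-- An element of order four of `PSL₂` and an element inverting it, `2` being a square. -/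
theorem exists_four_inverted [Finite F] (h2 : (2 : F) ≠ 0) (hsq : IsSquare (2 : F)) :
    ∃ x σ : Matrix.ProjectiveSpecialLinearGroup (Fin 2) F,
      x * x ≠ 1 ∧ x * x * (x * x) = 1 ∧ x * σ * x = σ := by
  obtain ⟨t, ht⟩ := hsq
  have ht0 : t ≠ 0 := fun e => h2 (by rw [ht, e, mul_zero])
  obtain ⟨p, hp⟩ := CharP.exists F
  haveI := hp
  haveI : NeZero p := ⟨CharP.char_ne_zero_of_finite F p⟩
  obtain ⟨a, b, hab⟩ := CharP.sq_add_sq F p (-1)
  push_cast at hab
  let g : Matrix.SpecialLinearGroup (Fin 2) F :=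
    ⟨!![0, -1; 1, t], by simp [Matrix.det_fin_two]⟩
  let s : Matrix.SpecialLinearGroup (Fin 2) F :=
    ⟨!![(a : F) + b, t * b; -(t * a), -((a : F) + b)], by
      rw [Matrix.det_fin_two]; simp
      linear_combination (-1 : F) * hab - (a : F) * b * ht⟩
  have hg : (g : Matrix (Fin 2) (Fin 2) F) = !![0, -1; 1, t] := rfl
  have hs : (s : Matrix (Fin 2) (Fin 2) F) =
      !![(a : F) + b, t * b; -(t * a), -((a : F) + b)] := rfl
  clear_value g s
  refine ⟨(g : Matrix.ProjectiveSpecialLinearGroup (Fin 2) F),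
    (s : Matrix.ProjectiveSpecialLinearGroup (Fin 2) F), fun h => ?_, ?_, ?_⟩
  · rw [← QuotientGroup.mk_mul, QuotientGroup.eq_one_iff,
      Matrix.SpecialLinearGroup.mem_center_iff] at h
    obtain ⟨r, -, hr⟩ := h
    have h10 := congrFun (congrFun hr 1) 0
    simp [Matrix.SpecialLinearGroup.coe_mul, hg, Matrix.mul_apply, Fin.sum_univ_two] at h10
    exact ht0 h10.symm
  · rw [← QuotientGroup.mk_mul, ← QuotientGroup.mk_mul, QuotientGroup.eq_one_iff,
      Matrix.SpecialLinearGroup.mem_center_iff]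
    refine ⟨-1, by simp, ?_⟩
    ext i j
    fin_cases i <;> fin_cases j <;>
      simp [Matrix.SpecialLinearGroup.coe_mul, hg, Matrix.mul_apply, Fin.sum_univ_two] <;>
      grind
  · rw [← QuotientGroup.mk_mul, ← QuotientGroup.mk_mul]
    congr 1
    refine Subtype.ext ?_
    rw [Matrix.SpecialLinearGroup.coe_mul, Matrix.SpecialLinearGroup.coe_mul, hg, hs]
    ext i j
    fin_cases i <;> fin_cases j <;> simp [Matrix.mul_apply, Fin.sum_univ_two] <;> grind

variable {G : Type u} [Group G] [Finite G]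

namespace Setup

variable (S : Setup G)
include S

/-- In a CIT-group with three primes no element of order four is inverted. -/
theorem not_four_inverted (h3 : (Nat.card G).primeFactors.card = 3)
    (hcit : ∀ t : G, orderOf t = 2 → IsPGroup 2 (Subgroup.centralizer ({t} : Set G))) {x σ : G}
    (h2 : x * x ≠ 1) (h4 : x * x * (x * x) = 1) (hσ : x * σ * x = σ) : False := by
  classical
  haveI : Fact (Nat.Prime 2) := ⟨Nat.prime_two⟩
  have ht : orderOf (x * x) = 2 := orderOf_eq_prime (by rw [pow_two, h4]) h2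
  have hx : x ≠ 1 := fun e => h2 (by rw [e, mul_one])
  have hle : cent x ≤ cent (x * x) := pow_two x ▸ cent_le_pow x 2
  have hP := hcit _ ht
  obtain ⟨l, hl⟩ := hP.exists_card_eq
  obtain ⟨k, -, hk⟩ := (Nat.dvd_prime_pow Nat.prime_two).1 (hl ▸ Subgroup.card_dvd_of_le hle)
  have h2G : 2 ∈ (Nat.card G).primeFactors :=
    Nat.mem_primeFactors.2 ⟨Nat.prime_two, ht ▸ orderOf_dvd_natCard _, Nat.card_pos.ne'⟩
  have hsub : (Nat.card G).primeFactors.erase 2 ⊆ sig x := by
    intro p hp
    obtain ⟨hp2, hp⟩ := Finset.mem_erase.1 hp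
    have hpp := Nat.prime_of_mem_primeFactors hp
    have hd := Nat.dvd_of_mem_primeFactors hp
    rw [← Subgroup.card_mul_index (cent x), hk] at hd
    refine (mem_sig hpp).2 ((hpp.dvd_mul.1 hd).resolve_left fun h => hp2 ?_)
    exact (Nat.prime_dvd_prime_iff_eq hpp Nat.prime_two).1 (hpp.dvd_of_dvd_pow h)
  have hsig := Finset.eq_of_subset_of_card_le hsub
    (by rw [S.sig_card hx, Finset.card_erase_of_mem h2G, h3])
  have hno : ¬ 2 ∣ (cent x).index := fun h => by
    have h' := (mem_sig (x := x) Nat.prime_two).2 h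
    rw [← hsig] at h'
    exact (Finset.mem_erase.1 h').1 rfl
  have heq : cent x = cent (x * x) := by
    refine Subgroup.eq_of_le_of_card_ge hle (Nat.le_of_dvd Nat.card_pos ?_)
    have hcop : (Nat.card (cent (x * x))).Coprime (cent x).index := by
      rw [hl]; exact Nat.Coprime.pow_left _ ((Nat.Prime.coprime_iff_not_dvd Nat.prime_two).2 hno)
    refine hcop.dvd_of_dvd_mul_right ?_
    rw [Subgroup.card_mul_index]
    exact Subgroup.card_subgroup_dvd_card _
  have hσx : σ * x = x⁻¹ * σ := by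
    conv_rhs => rw [← hσ]
    group
  have hmem : σ ∈ cent (x * x) := mem_cent.2 (show σ * (x * x) = x * x * σ by
    rw [← mul_assoc, hσx, mul_assoc, hσx, ← mul_assoc, ← mul_inv_rev,
      inv_eq_of_mul_eq_one_right h4])
  rw [← heq] at hmem
  refine h2 ?_
  have h := hσ
  rw [mul_assoc, (mem_cent.1 hmem).eq, ← mul_assoc] at h
  exact mul_eq_right.1 h

/-- The CIT case. -/
theorem pure (h3 : (Nat.card G).primeFactors.card = 3)
    (hcit : ∀ t : G, orderOf t = 2 → IsPGroup 2 (Subgroup.centralizer ({t} : Set G))) :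
    Nonempty (G ≃* alternatingGroup (Fin 5)) ∨
      Nonempty (G ≃* Matrix.ProjectiveSpecialLinearGroup (Fin 2) (GaloisField 2 3)) := by
  haveI := S.simple
  rcases CIT.classify S.nonab hcit with ⟨F, iF, iT, hF, ⟨e⟩⟩ | ⟨F, iF, iT, hF, ⟨e⟩⟩ |
    ⟨-, -, m, hm, hcard⟩
  · have hc := LinearGroup.gcd_mul_card_PSL_two (F := F)
    rw [← Nat.card_congr e.toEquiv, Nat.card_eq_fintype_card (α := F)] at hc
    have hodd : Fintype.card F % 2 = 1 → (Fintype.card F % 8 = 1 ∨ Fintype.card F % 8 = 7) →
        False := by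
      intro ho h8
      have h2 : (2 : F) ≠ 0 := Ring.two_ne_zero fun h => by
        have := FiniteField.even_card_of_char_two h
        omega
      have hsq : IsSquare (2 : F) := FiniteField.isSquare_two_iff.2 (by omega)
      obtain ⟨x, σ, hx2, hx4, hxσ⟩ := exists_four_inverted h2 hsq
      exact S.not_four_inverted h3 hcit (x := e.symm x) (σ := e.symm σ)
        (fun h => hx2 (e.symm.injective (by rw [map_mul, h, map_one])))
        (by rw [← map_mul, ← map_mul, hx4, map_one])
        (by rw [← map_mul, ← map_mul, hxσ])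
    have hsmall : ∀ N : ℕ, Nat.card G = N → N ≠ 6 ∧ N ≠ 12 := by
      intro N hN
      have hb : ∀ M : ℕ, M.primeFactors ⊆ {2, 3} → M ≠ N := fun M hM hMN => by
        have := Finset.card_le_card hM
        rw [hMN, ← hN, h3] at this
        simp at this
      constructor <;> intro hN' <;> refine hb N ?_ rfl <;> subst hN' <;> intro p hp <;>
        have hpp := Nat.prime_of_mem_primeFactors hp <;>
        have hd := Nat.dvd_of_mem_primeFactors hp <;>
        have hle := Nat.le_of_dvd (by norm_num) hd <;>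
        interval_cases p <;> revert hpp hd <;> norm_num
    rcases hF with h9 | ⟨n, hn⟩ | ⟨hp, k, hk⟩
    · exact (hodd (by omega) (by omega)).elim
    · rcases Nat.lt_or_ge n 4 with hn4 | hn4
      · interval_cases n <;> rw [hn] at hc <;> norm_num at hc hn
        · exact absurd hn Fintype.one_lt_card.ne'
        · exact absurd hc (hsmall _ rfl).1
        · exact Or.inl (S0494.result hc)
        · refine Or.inr ?_
          haveI : Fintype (GaloisField 2 3) := Fintype.ofFinite _
          exact ⟨e.trans (LinearGroup.pslCongr (FiniteField.ringEquivOfCardEq (K := F)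
            (K' := GaloisField 2 3) (by
              rw [hn, ← Nat.card_eq_fintype_card, GaloisField.card 2 3 (by norm_num)]
              norm_num)))⟩
      · have heven : 2 ∣ 2 ^ n := dvd_pow_self 2 (by omega)
        rw [hn, (Nat.coprime_two_left.2 (Nat.odd_iff.2 (by
          have := Nat.one_le_two_pow (n := n); omega))).gcd_eq_one, one_mul] at hc
        have := four_le_of_two_pow hn4
        rw [← hc, h3] at this
        omega
    · have h2le := hp.two_le
      rcases Nat.lt_or_ge k 3 with hk3 | hk3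
      · rcases (show Fintype.card F = 2 ∨ Fintype.card F = 3 ∨ Fintype.card F = 5 by
          interval_cases k <;> omega) with h | h | h <;> rw [h] at hc <;> norm_num at hc
        · exact absurd hc (hsmall _ rfl).1
        · exact absurd (show Nat.card G = 12 by omega) (hsmall _ rfl).2
        · exact Or.inl (S0494.result (show Nat.card G = 60 by omega))
      · obtain ⟨j, rfl⟩ : ∃ j, k = j + 3 := ⟨k - 3, by omega⟩
        rw [pow_add] at hk
        exact (hodd (by omega) (by omega)).elim
  · exfalso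
    have hc := InvChar.SixtyFour.card_PSL_three_four hF
    rw [← Nat.card_congr e.toEquiv] at hc
    have := four_le_card_primeFactors (a := 2 ^ 6) (b := 3 ^ 2) (c := 5) (d := 7) (by norm_num)
      (by norm_num) (by norm_num) (by norm_num) (by norm_num) (by norm_num) (by norm_num)
      (by norm_num) (by norm_num) (by norm_num)
    rw [show 2 ^ 6 * 3 ^ 2 * 5 * 7 = Nat.card G by rw [hc]; norm_num, h3] at this
    omega
  · exfalso
    have := four_le_suzuki hm
    rw [← hcard, h3] at this
    omega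

end Setup

end Cfsg.Agent.TwoPrime63
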