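import Cfsg.Agent.TwoPrime63.Tri
import Cfsg.Agent.Lib.Involution.IndexTwo

/-!
# Class sizes with at most two prime divisors: centre of index four in a Sylow 2-subgroup
-/

set_option autoImplicit false
set_option linter.unusedSectionVars false
set_option linter.style.haveILetI false

namespace Cfsg.Agent.TwoPrime63

open Agent.Ito7 (cent mem_cent self_mem_cent cent_le_pow)
open Subgroup (centralizer normalizer)

universe u

variable {G : Type u} [Group G] [Finite G]

theorem exists_involution_zpowers {a : G} (ha : a ≠ 1) {k : ℕ} (ho : orderOf a = 2 ^ k) :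
    ∃ m : ℕ, orderOf (a ^ m) = 2 := by
  haveI := Fact.mk Nat.prime_two
  exact Ito7.exists_involution_power (p := 2) ha ⟨k, ho⟩

theorem card_le_of_pow_eq {S : Subgroup G} (hS : IsPGroup 2 S) {n : ℕ} {U : Subgroup G}
    (hU : IsPGroup 2 U) (hlt : Nat.card U < n) (hn : n = 2 * Nat.card S) (hSU : S ≤ U) :
    U = S := by
  haveI := Fact.mk Nat.prime_two
  obtain ⟨j, hj⟩ := hU.exists_card_eq
  obtain ⟨i, hi⟩ := hS.exists_card_eq
  refine (Subgroup.eq_of_le_of_card_ge hSU ?_).symm
  rw [hi, hj]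
  refine Nat.pow_le_pow_right (by norm_num) ?_
  by_contra h
  have := Nat.pow_le_pow_right (show 0 < 2 by norm_num) (show i + 1 ≤ j by omega)
  rw [pow_succ, ← hi, ← hj] at this
  omega

theorem le_normalizer_map {M : Subgroup G} (K : Subgroup M) (hK : K.Normal) :
    M ≤ normalizer ((K.map M.subtype : Subgroup G) : Set G) := by
  intro c hc
  refine Subgroup.mem_normalizer_iff.2 fun w => ⟨fun hw => ?_, fun hw => ?_⟩
  · obtain ⟨w', hw', rfl⟩ := Subgroup.mem_map.1 hw
    exact Subgroup.mem_map.2 ⟨⟨c, hc⟩ * w' * ⟨c, hc⟩⁻¹, hK.conj_mem w' hw' _, rfl⟩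
  · obtain ⟨w', hw', hww⟩ := Subgroup.mem_map.1 hw
    have hw'' : (w' : G) = c * w * c⁻¹ := hww
    refine Subgroup.mem_map.2 ⟨⟨c, hc⟩⁻¹ * w' * ⟨c, hc⟩, hK.conj_mem' w' hw' _, ?_⟩
    show c⁻¹ * (w' : G) * c = w
    rw [hw'']
    group

namespace Tri

variable {p q : ℕ} (D : Tri G p q)
include D

theorem false_of_autOrder_lt_six [Fact p.Prime] [Fact (Nat.Prime 2)] (T : Sylow 2 G)
    (P : Sylow p G) {z : G} (hz : orderOf z = 2) (hzT : z ∈ (T : Subgroup G)) (hFp : Full p z)
    (hP : autOrder P ≤ 3) (hT : autOrder T < 6) : False := by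
  classical
  haveI := D.setup.simple
  have hz1 : z ≠ 1 := ne_one_of_order Nat.prime_two hz
  have hF2 : ¬ Full 2 z := fun h =>
    D.p2 (D.full_unique hz1 (Or.inr (Or.inl rfl)) (Or.inl rfl) hFp h)
  have hT4 := D.four_le_autOrder_two hz hF2 T
  -- the centre of `T`
  set Z := centralizer ((T : Subgroup G) : Set G) ⊓ (T : Subgroup G) with hZdef
  have hZT : Z ≤ (T : Subgroup G) := inf_le_right
  have hZc : ∀ c ∈ Z, ∀ t ∈ (T : Subgroup G), t * c = c * t := fun c hc t ht =>
    Subgroup.mem_centralizer_iff.1 hc.1 t ht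
  have hfullZ : ∀ c ∈ Z, Full 2 c := fun c hc hd => T.not_dvd_index
    (hd.trans (Subgroup.index_dvd_of_le fun t ht => mem_cent.2 (hZc c hc t ht)))
  have hzZ : z ∉ Z := fun h => hF2 (hfullZ z h)
  -- involutions of the centre have centraliser `T`
  have hcentZ : ∀ a ∈ Z, orderOf a = 2 → cent a = (T : Subgroup G) := fun a ha ho =>
    T.is_maximal' (D.isPGroup_cent_of_full_two ho (hfullZ a ha))
      (fun t ht => mem_cent.2 (hZc a ha t ht))
  have hZcent : ∀ c ∈ Z, c ≠ 1 → ∀ y : G, orderOf y = p → ¬ Commute y c := by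
    intro c hc hc1 y hy hyc
    obtain ⟨k, hk⟩ := (IsPGroup.iff_orderOf.1 T.isPGroup') ⟨c, hZT hc⟩
    rw [Subgroup.orderOf_mk] at hk
    obtain ⟨m, hm⟩ := exists_involution_zpowers hc1 hk
    have hyT : y ∈ (T : Subgroup G) := by
      rw [← hcentZ _ (pow_mem hc m) hm]; exact mem_cent.2 (hyc.pow_right m)
    obtain ⟨j, hj⟩ := (IsPGroup.iff_orderOf.1 T.isPGroup') ⟨y, hyT⟩
    rw [Subgroup.orderOf_mk, hy] at hj
    exact D.p2 ((Nat.prime_dvd_prime_iff_eq D.pp Nat.prime_two).1
      (D.pp.dvd_of_dvd_pow (dvd_of_eq hj)))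
  -- `|T : Z| = 4`
  obtain ⟨ia, hia⟩ : ∃ ia, Z.relIndex (T : Subgroup G) = 2 ^ ia :=
    T.isPGroup'.index (Z.subgroupOf (T : Subgroup G))
  have hZrel : Z.relIndex (T : Subgroup G) ≤ autOrder T := by
    rw [hZdef, Subgroup.inf_relIndex_right]; exact relIndex_le_autOrder T
  -- `S₀ = C_T(z)`
  set S₀ := cent z ⊓ (T : Subgroup G) with hS₀def
  have hS₀T : S₀ ≤ (T : Subgroup G) := inf_le_right
  have hZS₀ : Z ≤ S₀ := le_inf (fun c hc => mem_cent.2 (hZc c hc z hzT).symm) hZT
  have hzS₀ : z ∈ S₀ := ⟨self_mem_cent z, hzT⟩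
  obtain ⟨ib, hib⟩ : ∃ ib, Z.relIndex S₀ = 2 ^ ib :=
    (T.isPGroup'.to_le hS₀T).index (Z.subgroupOf S₀)
  obtain ⟨ic, hic⟩ : ∃ ic, S₀.relIndex (T : Subgroup G) = 2 ^ ic :=
    T.isPGroup'.index (S₀.subgroupOf (T : Subgroup G))
  have hib0 : ib ≠ 0 := fun h => hzZ (Subgroup.relIndex_eq_one.1 (by rw [hib, h, pow_zero]) hzS₀)
  have hic0 : ic ≠ 0 := fun h => hF2 fun hd => T.not_dvd_index (hd.trans
    (Subgroup.index_dvd_of_le ((Subgroup.relIndex_eq_one.1 (by rw [hic, h, pow_zero])).trans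
      inf_le_left)))
  have hprod := Subgroup.relIndex_mul_relIndex Z S₀ (T : Subgroup G) hZS₀ hS₀T
  rw [hib, hic, hia, ← pow_add] at hprod
  have hia3 : ia < 3 := by
    by_contra h
    have := Nat.pow_le_pow_right (show 0 < 2 by norm_num) (not_lt.1 h)
    omega
  have hsum := Nat.pow_right_injective (le_refl 2) hprod
  obtain ⟨rfl, rfl⟩ : ib = 1 ∧ ic = 1 := by omega
  rw [pow_one] at hib hic
  have hcard : Nat.card (T : Subgroup G) = 2 * Nat.card S₀ := by
    have h := (S₀.subgroupOf (T : Subgroup G)).card_mul_index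
    rw [Nat.card_congr (Subgroup.subgroupOfEquivOfLe hS₀T).toEquiv] at h
    change Nat.card S₀ * S₀.relIndex (T : Subgroup G) = _ at h
    rw [hic] at h
    omega
  have hmemS : ∀ s ∈ S₀, s ∈ Z ∨ z⁻¹ * s ∈ Z := fun s hs => by
    by_cases hsZ : s ∈ Z
    · exact Or.inl hsZ
    · right
      have h := (Subgroup.mul_mem_iff_of_index_two (H := Z.subgroupOf S₀) hib
        (a := (⟨z, hzS₀⟩ : S₀)⁻¹) (b := ⟨s, hs⟩)).2 (by
          simp only [inv_mem_iff, Subgroup.mem_subgroupOf]; exact iff_of_false hzZ hsZ)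
      exact h
  have hS₀comm : ∀ s ∈ S₀, ∀ u ∈ S₀, Commute s u := by
    intro s hs u hu
    have hcz : ∀ v ∈ S₀, Commute z v := fun v hv => (mem_cent.1 hv.1).symm
    rcases hmemS s hs with h | h
    · exact (show Commute u s from hZc s h u (hS₀T hu)).symm
    · have h1 : Commute u (z⁻¹ * s) := hZc _ h u (hS₀T hu)
      have h2 := ((hcz u hu).symm.mul_right h1).symm
      rwa [mul_inv_cancel_left] at h2
  -- a nontrivial centre
  obtain ⟨a, haZ, ha2⟩ : ∃ a ∈ Z, orderOf a = 2 := by
    haveI : Nontrivial (T : Subgroup G) :=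
      ⟨⟨⟨z, hzT⟩, 1, fun h => hz1 (congrArg Subtype.val h)⟩⟩
    haveI := T.isPGroup'.center_nontrivial
    obtain ⟨c, hc⟩ := exists_ne (1 : Subgroup.center (T : Subgroup G))
    have hcZ : ((c : (T : Subgroup G)) : G) ∈ Z :=
      ⟨Subgroup.mem_centralizer_iff.2 fun t ht =>
        congrArg Subtype.val (Subgroup.mem_center_iff.1 c.2 ⟨t, ht⟩), (c : (T : Subgroup G)).2⟩
    have hc1 : ((c : (T : Subgroup G)) : G) ≠ 1 := fun h => hc (Subtype.ext (Subtype.ext h))
    obtain ⟨k, hk⟩ := (IsPGroup.iff_orderOf.1 T.isPGroup') (c : (T : Subgroup G))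
    rw [← Subgroup.orderOf_coe] at hk
    obtain ⟨m, hm⟩ := exists_involution_zpowers hc1 hk
    exact ⟨_, pow_mem hcZ m, hm⟩
  have hcentS : centralizer (S₀ : Set G) = S₀ := by
    refine le_antisymm (fun g hg => ⟨mem_cent.2 (Subgroup.mem_centralizer_iff.1 hg z hzS₀).symm, ?_⟩)
      fun g hg => Subgroup.mem_centralizer_iff.2 fun s hs => hS₀comm s hs g hg
    rw [← hcentZ a haZ ha2]
    exact mem_cent.2 (Subgroup.mem_centralizer_iff.1 hg a (hZS₀ haZ)).symm
  -- `S₀` is a Sylow subgroup of `C(z)`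
  have hS₀p : IsPGroup 2 S₀ := T.isPGroup'.to_le hS₀T
  have hmax : ∀ U : Subgroup G, IsPGroup 2 U → U ≤ cent z → S₀ ≤ U → U = S₀ := by
    intro U hU hUz hSU
    refine card_le_of_pow_eq hS₀p hU ?_ hcard hSU
    obtain ⟨T', hT'⟩ := hU.exists_le_sylow
    rw [← show Nat.card (T' : Subgroup G) = Nat.card (T : Subgroup G) from
      by rw [T.card_eq_multiplicity, T'.card_eq_multiplicity]]
    refine lt_of_le_of_ne (Nat.le_of_dvd Nat.card_pos (Subgroup.card_dvd_of_le hT')) fun he => ?_
    have hUT := Subgroup.eq_of_le_of_card_ge hT' he.ge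
    exact hF2 fun hd => T'.not_dvd_index
      (hd.trans (Subgroup.index_dvd_of_le (hUT ▸ hUz)))
  have hdvdM : ∀ d : ℕ, d.Prime → d ∣ Nat.card (cent z) → d = 2 ∨ d = p := by
    intro d hd hdd
    rcases D.prime_cases hd (hdd.trans (Subgroup.card_subgroup_dvd_card _)) with h | h | rfl
    · exact Or.inl h
    · exact Or.inr h
    · exact absurd hdd (D.not_dvd_cent hz1 (Or.inr (Or.inl rfl)) (Or.inr rfl) D.pq hFp (by
        rw [hz]; exact (Nat.coprime_primes Nat.prime_two D.qp).2 D.q2.symm))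
  by_cases hy : ∃ y, y ∈ cent z ⊓ normalizer (S₀ : Set G) ∧ orderOf y = p
  · -- an element of order `p` normalises `S₀`
    obtain ⟨y, ⟨hyz, hyN⟩, hyo⟩ := hy
    set X := normalizer (S₀ : Set G) with hX
    have hTX : (T : Subgroup G) ≤ X := by
      haveI := Subgroup.normal_of_index_eq_two (H := S₀.subgroupOf (T : Subgroup G)) hic
      exact Subgroup.le_normalizer_of_normal_subgroupOf hS₀T
    have hSX : S₀ ≤ X := Subgroup.le_normalizer
    haveI : (S₀.subgroupOf X).Normal := Subgroup.normal_in_normalizer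
    let π := QuotientGroup.mk' (S₀.subgroupOf X)
    have hπker : π.ker = S₀.subgroupOf X := QuotientGroup.ker_mk' _
    let TX : Sylow 2 X := T.subtype hTX
    let Tq : Sylow 2 (X ⧸ S₀.subgroupOf X) :=
      TX.mapSurjective (f := π) (QuotientGroup.mk'_surjective _)
    have hTq : Nat.card (Tq : Subgroup (X ⧸ S₀.subgroupOf X)) = 2 := by
      show Nat.card ((TX : Subgroup X).map π) = 2
      rw [← MonoidHom.domRestrict_range, ← Subgroup.index_ker, MonoidHom.ker_domRestrict, hπker]
      show (S₀.subgroupOf X).relIndex (TX : Subgroup X) = 2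
      rw [Sylow.coe_subtype, Subgroup.relIndex_subgroupOf hTX, hic]
    haveI := isCyclic_of_prime_card hTq
    have heven : Even (Nat.card (X ⧸ S₀.subgroupOf X)) := by
      rw [even_iff_two_dvd]
      nth_rw 1 [← hTq]
      exact Subgroup.card_subgroup_dvd_card _
    obtain ⟨H', hH'⟩ := Involution.exists_index_two_of_cyclic_sylow heven Tq inferInstance
    set H := H'.comap π with hHdef
    have hH : H.index = 2 := by
      rw [hHdef, Subgroup.index_comap_of_surjective _ (QuotientGroup.mk'_surjective _), hH']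
    haveI : H.Normal := Subgroup.normal_of_index_eq_two hH
    have hSH : ∀ s : X, (s : G) ∈ S₀ → s ∈ H := fun s hs => by
      show π s ∈ H'
      rw [show π s = 1 from (QuotientGroup.eq_one_iff s).2 hs]
      exact one_mem H'
    have hyH : (⟨y, hyN⟩ : X) ∈ H := by
      by_contra hyH
      obtain ⟨m, hm⟩ := D.pp.odd_of_ne_two D.p2
      have h1 : (⟨y, hyN⟩ : X) ^ (2 * m + 1) = 1 := by
        refine Subtype.ext ?_
        show y ^ (2 * m + 1) = 1
        rw [← hm, ← hyo, pow_orderOf_eq_one]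
      refine hyH ?_
      rw [pow_succ, mul_eq_one_iff_eq_inv] at h1
      rw [← inv_inv (⟨y, hyN⟩ : X), ← h1, pow_mul]
      exact inv_mem (pow_mem (Subgroup.sq_mem_of_index_two hH _) m)
    have hyp : IsPGroup p (Subgroup.zpowers (⟨⟨y, hyN⟩, hyH⟩ : H)) :=
      IsPGroup.of_card (n := 1) (by
        rw [Nat.card_zpowers, Subgroup.orderOf_mk, Subgroup.orderOf_mk, hyo, pow_one])
    obtain ⟨R₀, hR₀⟩ := hyp.exists_le_sylow
    have hfr := Sylow.normalizer_sup_eq_top R₀
    set R := (R₀ : Subgroup H).map H.subtype with hRdef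
    obtain ⟨g, hgR, hgH⟩ : ∃ g, g ∈ normalizer (R : Set X) ∧ g ∉ H := by
      by_contra h
      push Not at h
      have : (⊤ : Subgroup X) ≤ H := hfr ▸ sup_le (fun g hg => h g hg) le_rfl
      rw [top_le_iff.1 this, Subgroup.index_top] at hH
      omega
    -- a `2`-element of the normaliser outside `H`
    obtain ⟨k, m, hm2, hgm⟩ := Nat.exists_eq_pow_mul_and_not_dvd (orderOf_pos g).ne' 2 (by norm_num)
    set t := g ^ m with htdef
    have htH : t ∉ H := by
      intro h
      obtain ⟨j, hj⟩ := (Nat.odd_iff.2 (Nat.two_dvd_ne_zero.1 hm2) : Odd m)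
      refine hgH ?_
      rw [htdef, hj, pow_succ] at h
      exact (Subgroup.mul_mem_cancel_left H
        (pow_mul g 2 j ▸ pow_mem (Subgroup.sq_mem_of_index_two hH g) j)).1 h
    have htR : t ∈ normalizer (R : Set X) := pow_mem hgR m
    have hto : orderOf (t : G) ∣ 2 ^ k := orderOf_dvd_of_pow_eq_one (by
      show ((g : G) ^ m) ^ (2 ^ k) = 1
      rw [← pow_mul, mul_comm, ← hgm, ← Subgroup.orderOf_coe, pow_orderOf_eq_one])
    -- `R` is abelian and centralises `z`
    have hRp : IsPGroup p (R.map X.subtype) := (R₀.isPGroup'.map H.subtype).map X.subtype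
    obtain ⟨P', hP'⟩ := hRp.exists_le_sylow
    have hmemR : ∀ w ∈ R, (w : G) ∈ (P' : Subgroup G) := fun w hw => hP' ⟨w, hw, rfl⟩
    have hyR : (⟨y, hyN⟩ : X) ∈ R :=
      ⟨⟨⟨y, hyN⟩, hyH⟩, hR₀ (Subgroup.mem_zpowers _), rfl⟩
    have hC : ∀ c, c ∈ S₀ → Commute c y → c = 1 ∨ c = z := by
      intro c hc hcy
      rcases hmemS c hc with h | h
      · left
        by_contra hc1
        exact hZcent c h hc1 y hyo hcy.symm
      · right
        by_contra hcz
        exact hZcent _ h (fun e => hcz (inv_mul_eq_one.1 e).symm) y hyo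
          ((mem_cent.1 hyz).inv_right.mul_right hcy.symm)
    have hRz : ∀ w ∈ R, Commute (w : G) z := by
      intro w hw
      have hcomm : Commute (w : G) y := D.comm_p P' _ (hmemR w hw) _ (hmemR _ hyR)
      have hin : (w : G) * z * (w : G)⁻¹ ∈ S₀ := (Subgroup.mem_normalizer_iff.1 w.2 z).1 hzS₀
      have hcy : Commute ((w : G) * z * (w : G)⁻¹) y :=
        (hcomm.mul_left (mem_cent.1 hyz).symm).mul_left hcomm.inv_left
      rcases hC _ hin hcy with h | h
      · exact absurd (conj_eq_one_iff.1 h) hz1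
      · exact mul_inv_eq_iff_eq_mul.1 h
    have htz : Commute (t : G) z := by
      have hin : (t : G) * z * (t : G)⁻¹ ∈ S₀ := (Subgroup.mem_normalizer_iff.1 t.2 z).1 hzS₀
      have hw : t⁻¹ * ⟨y, hyN⟩ * t ∈ R := by
        have := (Subgroup.mem_normalizer_iff.1 (inv_mem htR) ⟨y, hyN⟩).1 hyR
        rwa [inv_inv] at this
      have hcy : Commute ((t : G) * z * (t : G)⁻¹) y := by
        have h1 := (hRz _ hw).symm.map (MulAut.conj (t : G)).toMonoidHom
        simpa [mul_assoc] using h1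
      rcases hC _ hin hcy with h | h
      · exact absurd (conj_eq_one_iff.1 h) hz1
      · exact mul_inv_eq_iff_eq_mul.1 h
    have hzt : Subgroup.zpowers (t : G) ≤ cent z :=
      Subgroup.zpowers_le.2 (mem_cent.2 htz)
    have hU : IsPGroup 2 (Subgroup.zpowers (t : G) ⊔ S₀ : Subgroup G) := by
      refine IsPGroup.to_sup_of_normal_right' ?_ hS₀p ?_
      · obtain ⟨i, -, hi⟩ := (Nat.dvd_prime_pow Nat.prime_two).1 hto
        exact IsPGroup.of_card (n := i) (by rw [Nat.card_zpowers, hi])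
      · exact Subgroup.zpowers_le.2 t.2
    have hUS := hmax _ hU (sup_le hzt inf_le_left) le_sup_right
    exact htH (hSH t (hUS ▸ (le_sup_left : Subgroup.zpowers (t : G) ≤ _) (Subgroup.mem_zpowers _)))
  · -- `C(z)` has a normal Sylow `p`-subgroup
    push Not at hy
    set M := cent z with hMdef
    obtain ⟨S₁, hS₁⟩ := (hS₀p.comap_of_injective M.subtype M.subtype_injective).exists_le_sylow
    have hS₁eq : ((S₁ : Subgroup M).map M.subtype) = S₀ := hmax _ (S₁.isPGroup'.map _)
      (Subgroup.map_subtype_le _) (fun s hs => ⟨⟨s, hs.1⟩, hS₁ hs, rfl⟩)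
    have hmem₁ : ∀ s : M, s ∈ (S₁ : Subgroup M) ↔ (s : G) ∈ S₀ := fun s => by
      rw [← hS₁eq]
      exact (Subgroup.mem_map_iff_mem M.subtype_injective).symm
    set N := M ⊓ normalizer (S₀ : Set G) with hN
    have hN2 : IsPGroup 2 N := IsPGroup.of_card (n := (Nat.card N).primeFactorsList.length)
      (Nat.eq_prime_pow_of_unique_prime_dvd Nat.card_pos.ne' fun {d} hd hdd => by
        rcases hdvdM d hd (hdd.trans (Subgroup.card_dvd_of_le inf_le_left)) with h | rfl
        · exact h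
        · obtain ⟨y, hy', hyo⟩ := exists_orderOf_prime hd hdd
          exact absurd hyo (hy y hy'))
    have hNS : N = S₀ := hmax N hN2 inf_le_left (le_inf inf_le_left Subgroup.le_normalizer)
    have hN₁ : normalizer ((S₁ : Subgroup M) : Set M) ≤ centralizer ((S₁ : Subgroup M) : Set M) := by
      intro m hm
      have hmS : (m : G) ∈ S₀ := by
        rw [← hNS]
        refine ⟨m.2, Subgroup.mem_normalizer_iff.2 fun s => ⟨fun hs => ?_, fun hs => ?_⟩⟩
        · exact (hmem₁ _).1 ((Subgroup.mem_normalizer_iff.1 hm ⟨s, hs.1⟩).1 ((hmem₁ _).2 hs))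
        · have hsM : s ∈ M := by
            have h1 := mul_mem (mul_mem (inv_mem m.2) (show (m : G) * s * (m : G)⁻¹ ∈ M from hs.1)) m.2
            simpa [mul_assoc] using h1
          exact (hmem₁ _).1 ((Subgroup.mem_normalizer_iff.1 hm ⟨s, hsM⟩).2 ((hmem₁ _).2 hs))
      exact Subgroup.mem_centralizer_iff.2 fun s hs =>
        Subtype.ext (hS₀comm _ ((hmem₁ s).1 hs) _ hmS)
    have hK := MonoidHom.ker_transferSylow_isComplement' S₁ hN₁
    have hKodd := MonoidHom.not_dvd_card_ker_transferSylow S₁ hN₁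
    set K := (MonoidHom.transferSylow S₁ hN₁).ker
    have hKp : IsPGroup p (K.map M.subtype) := IsPGroup.of_card
      (n := (Nat.card K).primeFactorsList.length) (by
      rw [Subgroup.card_map_of_injective M.subtype_injective]
      refine Nat.eq_prime_pow_of_unique_prime_dvd Nat.card_pos.ne' fun {d} hd hdd => ?_
      rcases hdvdM d hd (hdd.trans (Subgroup.card_subgroup_dvd_card _)) with rfl | h
      · exact absurd hdd hKodd
      · exact h)
    have hKidx : ¬ p ∣ (K.map M.subtype).index := by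
      rw [Subgroup.index_map_subtype, Nat.Prime.dvd_mul D.pp]
      rintro (h | h)
      · rw [hK.symm.index_eq_card] at h
        obtain ⟨i, hi⟩ := S₁.isPGroup'.exists_card_eq
        rw [hi] at h
        exact D.p2 ((Nat.prime_dvd_prime_iff_eq D.pp Nat.prime_two).1 (D.pp.dvd_of_dvd_pow h))
      · exact hFp h
    let P₁ : Sylow p G := hKp.toSylow hKidx
    have hP₁ : autOrder P₁ = autOrder P := by
      refine Nat.eq_of_mul_eq_mul_right
        (m := Nat.card (Sylow p G) * Nat.card (centralizer ((P : Subgroup G) : Set G)))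
        (Nat.mul_pos Nat.card_pos Nat.card_pos) ?_
      nth_rw 1 [← card_centralizer_sylow P P₁]
      rw [autOrder_mul_card, autOrder_mul_card]
    have hP₁ne : (P₁ : Subgroup G) ≠ ⊥ := P₁.ne_bot_of_dvd_card D.dvd_p
    -- the centre embeds into the automizer of `P₁`
    have hZN : Z ≤ normalizer ((P₁ : Subgroup G) : Set G) := by
      rw [IsPGroup.toSylow_coe]
      exact fun c hc => le_normalizer_map K (MonoidHom.normal_ker _) (hZS₀ hc).1
    obtain ⟨y₀, hy₀, hy₀o⟩ := exists_orderOf_prime D.pp (H := (P₁ : Subgroup G)) (by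
      obtain ⟨i, hi⟩ := P₁.isPGroup'.exists_card_eq
      rw [hi]
      refine dvd_pow_self p fun h => hP₁ne ?_
      rw [Subgroup.eq_bot_iff_card, hi, h, pow_zero])
    have hZC : centralizer ((P₁ : Subgroup G) : Set G) ⊓ Z = ⊥ := by
      refine (Subgroup.eq_bot_iff_forall _).2 fun c hc => by_contra fun hc1 => ?_
      exact hZcent c hc.2 hc1 y₀ hy₀o (Subgroup.mem_centralizer_iff.1 hc.1 y₀ hy₀)
    have hZle : Nat.card Z ≤ 3 := by
      have h1 : (centralizer ((P₁ : Subgroup G) : Set G)).relIndex Z ≤ autOrder P₁ :=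
        Subgroup.relIndex_le_of_le_right hZN Subgroup.index_ne_zero_of_finite
      rw [← Subgroup.inf_relIndex_right, hZC, Subgroup.relIndex_bot_left, hP₁] at h1
      omega
    have hS₀card : Nat.card S₀ = 2 * Nat.card Z := by
      have h := (Z.subgroupOf S₀).card_mul_index
      rw [Nat.card_congr (Subgroup.subgroupOfEquivOfLe hZS₀).toEquiv] at h
      change Nat.card Z * Z.relIndex S₀ = _ at h
      rw [hib] at h
      omega
    have hZcard : Nat.card Z = 2 := by
      obtain ⟨i, hi⟩ := (T.isPGroup'.to_le hZT).exists_card_eq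
      have h2 : 2 ≤ Nat.card Z := Finite.one_lt_card_iff_nontrivial.2
        ⟨⟨⟨a, haZ⟩, 1, fun h => ne_one_of_order Nat.prime_two ha2 (congrArg Subtype.val h)⟩⟩
      interval_cases hh : Nat.card Z
      · rfl
      · rcases i with _ | _ | i <;> simp [pow_succ] at hi <;> omega
    have hT8 : Nat.card (T : Subgroup G) = 8 := by omega
    -- an element of order four
    obtain ⟨x, hxT, hxx⟩ : ∃ x ∈ (T : Subgroup G), x * x ≠ 1 := by
      by_contra h
      push Not at h
      have hab : ∀ t ∈ (T : Subgroup G), ∀ u ∈ (T : Subgroup G), t * u = u * t := by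
        intro t ht u hu
        have ei : ∀ v ∈ (T : Subgroup G), v⁻¹ = v := fun v hv =>
          inv_eq_of_mul_eq_one_right (h v hv)
        calc t * u = (t * u)⁻¹ := (ei _ (mul_mem ht hu)).symm
          _ = u * t := by rw [mul_inv_rev, ei u hu, ei t ht]
      exact hzZ ⟨Subgroup.mem_centralizer_iff.2 fun t ht => hab t ht z hzT, hzT⟩
    have hx4 : orderOf x = 4 := by
      have hd : orderOf x ∣ 8 := by
        rw [← hT8, ← Subgroup.orderOf_mk x hxT]
        exact orderOf_dvd_natCard _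
      have hne8 : orderOf x ≠ 8 := by
        intro h8
        have hT' : (T : Subgroup G) = Subgroup.zpowers x :=
          (Subgroup.eq_of_le_of_card_ge (Subgroup.zpowers_le.2 hxT)
            (by rw [hT8, Nat.card_zpowers, h8])).symm
        refine hzZ ⟨Subgroup.mem_centralizer_iff.2 fun t ht => ?_, hzT⟩
        obtain ⟨i, rfl⟩ := Subgroup.mem_zpowers_iff.1 (hT'.le ht)
        obtain ⟨j, rfl⟩ := Subgroup.mem_zpowers_iff.1 (hT'.le hzT)
        exact (Commute.refl x).zpow_zpow i j
      have hx1 : orderOf x ≠ 1 := fun h => hxx (by rw [orderOf_eq_one_iff.1 h, one_mul])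
      have hx2 : orderOf x ≠ 2 := fun h => hxx (by rw [← pow_two, ← h, pow_orderOf_eq_one])
      have := Nat.le_of_dvd (by norm_num) hd
      interval_cases hh : orderOf x <;> omega
    set U := Subgroup.zpowers x with hUdef
    have hUT : U ≤ (T : Subgroup G) := Subgroup.zpowers_le.2 hxT
    have hUrel : U.relIndex (T : Subgroup G) = 2 := by
      have h := (U.subgroupOf (T : Subgroup G)).card_mul_index
      rw [Nat.card_congr (Subgroup.subgroupOfEquivOfLe hUT).toEquiv, Nat.card_zpowers, hx4,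
        hT8] at h
      change 4 * U.relIndex (T : Subgroup G) = 8 at h
      omega
    have huniq : ∀ u ∈ U, orderOf u = 2 → u = x ^ 2 := by
      intro u hu huo
      obtain ⟨i, rfl⟩ := Subgroup.mem_zpowers_iff.1 hu
      have hmod : x ^ i = x ^ (i % 4).toNat := by
        rw [← zpow_natCast, Int.toNat_of_nonneg (Int.emod_nonneg _ (by norm_num)),
          show (4 : ℤ) = (orderOf x : ℤ) by rw [hx4]; norm_num, zpow_mod_orderOf]
      have hlt : (i % 4).toNat < 4 := by omega
      rw [hmod] at huo ⊢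
      have h42 : orderOf (x ^ 2) = 2 := by rw [orderOf_pow, hx4]; rfl
      interval_cases hh : (i % 4).toNat <;> simp [orderOf_pow, hx4] at huo ⊢
    have hx2Z : x ^ 2 ∈ Z := by
      refine ⟨Subgroup.mem_centralizer_iff.2 fun t ht => ?_, pow_mem hxT 2⟩
      haveI := Subgroup.normal_of_index_eq_two (H := U.subgroupOf (T : Subgroup G)) hUrel
      have h1 : t * x ^ 2 * t⁻¹ ∈ U := Subgroup.Normal.conj_mem
        (inferInstance : (U.subgroupOf (T : Subgroup G)).Normal) ⟨x ^ 2, pow_mem hxT 2⟩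
        (pow_mem (Subgroup.mem_zpowers x) 2) ⟨t, ht⟩
      have h2 := huniq _ h1 (by
        rw [show t * x ^ 2 * t⁻¹ = MulAut.conj t (x ^ 2) from rfl, MulEquiv.orderOf_eq,
          orderOf_pow, hx4]; rfl)
      exact mul_inv_eq_iff_eq_mul.1 h2
    have hno : ∀ g : G, g * z * g⁻¹ ∉ U := by
      intro g hg
      have h := huniq _ hg (by
        rw [show g * z * g⁻¹ = MulAut.conj g z from rfl, MulEquiv.orderOf_eq, hz])
      refine hF2 ?_
      have hf := hfullZ _ hx2Z
      rw [← h] at hf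
      intro hd
      refine hf (hd.trans (dvd_of_eq ?_))
      have hmap : (cent z).map (MulAut.conj g).toMonoidHom = cent (g * z * g⁻¹) := by
        refine le_antisymm ?_ fun w hw => ⟨g⁻¹ * w * g, mem_cent.2 ?_, by simp; group⟩
        · rintro _ ⟨w, hw, rfl⟩
          exact mem_cent.2 ((mem_cent.1 hw).map (MulAut.conj g).toMonoidHom)
        · simpa [mul_assoc] using (mem_cent.1 hw).map (MulAut.conj g⁻¹).toMonoidHom
      rw [← hmap]
      exact (Subgroup.index_map_of_bijective (MulAut.conj g).bijective _).symm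
    obtain ⟨L, hL, hLi, hzL⟩ := Involution.thompson_transfer T U hUT hUrel
      (by rw [← pow_two, ← hz, pow_orderOf_eq_one]) hno
    rcases hL.eq_bot_or_eq_top with rfl | rfl
    · rw [Subgroup.index_bot] at hLi
      exact D.setup.not_prime (hLi ▸ Nat.prime_two)
    · exact hzL (Subgroup.mem_top z)

end Tri

end Cfsg.Agent.TwoPrime63
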