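import Mathlib.Tactic
import Mathlib.Data.Nat.Factorization.Basic
import Mathlib.Data.Nat.PrimeFin

/-!
# Class sizes with at most two prime divisors: three consecutive degrees
-/

set_option autoImplicit false

namespace Cfsg.Agent.TwoPrime63

theorem exists_eq_pow {n r : ℕ} (hn : 0 < n) (h : ∀ d : ℕ, d.Prime → d ∣ n → d = r) :
    ∃ j, n = r ^ j :=
  ⟨_, Nat.eq_prime_pow_of_unique_prime_dvd hn.ne' fun {d} => h d⟩

theorem prime_dvd_pow {d r j : ℕ} (hd : d.Prime) (hr : r.Prime) (h : d ∣ r ^ j) : d = r :=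
  (Nat.prime_dvd_prime_iff_eq hd hr).1 (hd.dvd_of_dvd_pow h)

/-- `2 ^ k - 1` a power of three. -/
theorem two_pow_eq_three_pow_add_one {k v : ℕ} (h : 2 ^ k = 3 ^ v + 1) : v ≤ 1 := by
  rcases Nat.even_or_odd k with ⟨i, rfl⟩ | ⟨i, rfl⟩
  · have hsq : (2 ^ i - 1) * (2 ^ i + 1) = 3 ^ v := by
      have h1 : 1 ≤ 2 ^ i := Nat.one_le_two_pow
      zify [h1]
      have : ((2 : ℤ) ^ (i + i)) = 3 ^ v + 1 := by exact_mod_cast h
      rw [pow_add] at this
      linear_combination this
    obtain ⟨x, -, hx⟩ := (Nat.dvd_prime_pow Nat.prime_three).1 (Dvd.intro _ hsq)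
    obtain ⟨y, -, hy⟩ := (Nat.dvd_prime_pow Nat.prime_three).1 (Dvd.intro_left _ hsq)
    rcases Nat.eq_zero_or_pos x with rfl | hx0
    · have : 2 ^ i = 2 := by omega
      rw [this] at hsq
      norm_num at hsq
      have : v = 1 := Nat.pow_right_injective (le_refl 2 |>.trans (by norm_num : 2 ≤ 3))
        (show 3 ^ v = 3 ^ 1 by omega)
      omega
    · obtain ⟨x', rfl⟩ := Nat.exists_eq_add_of_le hx0
      rcases Nat.eq_zero_or_pos y with rfl | hy0
      · have := Nat.one_le_two_pow (n := i)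
        omega
      · obtain ⟨y', rfl⟩ := Nat.exists_eq_add_of_le hy0
        simp only [pow_add, pow_one, Nat.succ_eq_add_one, zero_add] at hx hy
        generalize 2 ^ i = X at hx hy
        generalize 3 ^ x' = Y at hx
        generalize 3 ^ y' = Z at hy
        omega
  · have h1 : 2 ^ (2 * i + 1) % 3 = 2 := by rw [pow_succ, pow_mul]; simp [Nat.mul_mod, Nat.pow_mod]
    rcases Nat.eq_zero_or_pos v with rfl | hv
    · omega
    · exfalso
      obtain ⟨w, rfl⟩ := Nat.exists_eq_add_of_le hv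
      rw [h, pow_add, pow_one, Nat.mul_add_mod] at h1
      norm_num at h1

/-- `2 ^ k + 1` a power of three. -/
theorem two_pow_add_one_eq_three_pow {k w : ℕ} (h : 2 ^ k + 1 = 3 ^ w) : k ≤ 3 := by
  by_contra hk
  obtain ⟨l, rfl⟩ := Nat.exists_eq_add_of_le (not_le.1 hk)
  rcases Nat.even_or_odd w with ⟨i, rfl⟩ | ⟨i, rfl⟩
  · have hsq : (3 ^ i - 1) * (3 ^ i + 1) = 2 ^ (3 + 1 + l) := by
      have h1 : 1 ≤ 3 ^ i := Nat.one_le_pow _ _ (by norm_num)
      zify [h1]
      have : ((2 : ℤ) ^ (3 + 1 + l)) + 1 = 3 ^ (i + i) := by exact_mod_cast h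
      rw [pow_add (3 : ℤ) i i] at this
      linear_combination -this
    obtain ⟨x, -, hx⟩ := (Nat.dvd_prime_pow Nat.prime_two).1 (Dvd.intro _ hsq)
    obtain ⟨y, -, hy⟩ := (Nat.dvd_prime_pow Nat.prime_two).1 (Dvd.intro_left _ hsq)
    have hxy : 2 ^ x + 2 = 2 ^ y := by
      have : 1 ≤ 3 ^ i := Nat.one_le_pow _ _ (by norm_num)
      omega
    have h16 : 2 ^ x * 2 ^ y ≥ 16 := by
      rw [← hx, ← hy, hsq]
      calc 16 = 2 ^ 4 := by norm_num
        _ ≤ _ := Nat.pow_le_pow_right (by norm_num) (by omega)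
    rcases x with _ | _ | x
    · norm_num at hxy h16; omega
    · norm_num at hxy h16; omega
    · rcases y with _ | _ | y
      · simp only [pow_succ, pow_zero] at hxy; omega
      · simp only [pow_succ, pow_zero] at hxy; omega
      · simp only [pow_succ] at hxy; omega
  · have h1 : 3 ^ (2 * i + 1) % 4 = 3 := by rw [pow_succ, pow_mul]; simp [Nat.mul_mod, Nat.pow_mod]
    rw [← h, show 3 + 1 + l = 2 + (2 + l) by ring, pow_add, show 2 ^ 2 = 4 by norm_num,
      Nat.mul_add_mod] at h1
    norm_num at h1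

/-- The degree arithmetic. -/
theorem degree_arith {p q a M M' : ℕ} (hp : p.Prime) (hq : q.Prime) (hp2 : p ≠ 2) (hq2 : q ≠ 2)
    (hpq : p ≠ q) (ha : 2 ≤ a) (hM : 0 < M) (hMa : M < a) (hM' : 0 < M') (hM'a : M' < a)
    (hqM : ∀ j, (q ^ j ∣ a ∨ q ^ j ∣ a + 1) → q ^ j ∣ M) (hpM' : p ∣ M')
    (hpM'' : ∀ j, (p ^ j ∣ a + 1 ∨ p ^ j ∣ a + 2) → p ^ j ∣ M')
    (h0 : ∀ d : ℕ, d.Prime → d ∣ a → d = 2 ∨ d = p ∨ d = q)
    (h1 : ∀ d : ℕ, d.Prime → d ∣ a + 1 → d = 2 ∨ d = p ∨ d = q)
    (h2 : ∀ d : ℕ, d.Prime → d ∣ a + 2 → d = 2 ∨ d = p ∨ d = q) : False := by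
  have na : ∀ j, a ≠ q ^ j := fun j h => by
    have := Nat.le_of_dvd hM (hqM j (Or.inl (h ▸ dvd_rfl)))
    omega
  have nb : ∀ j, a + 1 ≠ q ^ j := fun j h => by
    have := Nat.le_of_dvd hM (hqM j (Or.inr (h ▸ dvd_rfl)))
    omega
  have nb' : ∀ j, a + 1 ≠ p ^ j := fun j h => by
    have := Nat.le_of_dvd hM' (hpM'' j (Or.inl (h ▸ dvd_rfl)))
    omega
  have no2 : ∀ d : ℕ, d ∣ 2 → d.Prime → d = 2 := fun d h hd =>
    (Nat.prime_dvd_prime_iff_eq hd Nat.prime_two).1 h
  rcases Nat.even_or_odd a with ⟨i, hi⟩ | ⟨i, hi⟩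
  · -- `a + 1` is odd
    have hp1 : p ∣ a + 1 := by
      by_contra hn
      obtain ⟨j, hj⟩ := exists_eq_pow (r := q) (Nat.succ_pos a) fun d hd hdd => by
        rcases h1 d hd hdd with rfl | rfl | rfl
        · omega
        · exact absurd hdd hn
        · rfl
      exact nb j hj
    have hq1 : q ∣ a + 1 := by
      by_contra hn
      obtain ⟨j, hj⟩ := exists_eq_pow (r := p) (Nat.succ_pos a) fun d hd hdd => by
        rcases h1 d hd hdd with rfl | rfl | rfl
        · omega
        · rfl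
        · exact absurd hdd hn
      exact nb' j hj
    obtain ⟨x, hx⟩ := exists_eq_pow (r := 2) (show 0 < a by omega) fun d hd hdd => by
      rcases h0 d hd hdd with rfl | rfl | rfl
      · rfl
      · exact absurd (Nat.eq_one_of_dvd_one ((Nat.dvd_add_right hdd).1 hp1)) hd.one_lt.ne'
      · exact absurd (Nat.eq_one_of_dvd_one ((Nat.dvd_add_right hdd).1 hq1)) hd.one_lt.ne'
    obtain ⟨y, hy⟩ := exists_eq_pow (r := 2) (show 0 < a + 2 by omega) fun d hd hdd => by
      rcases h2 d hd hdd with rfl | rfl | rfl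
      · rfl
      · exact absurd (Nat.eq_one_of_dvd_one ((Nat.dvd_add_right hp1).1
          (show d ∣ (a + 1) + 1 from hdd))) hd.one_lt.ne'
      · exact absurd (Nat.eq_one_of_dvd_one ((Nat.dvd_add_right hq1).1
          (show d ∣ (a + 1) + 1 from hdd))) hd.one_lt.ne'
    rcases x with _ | _ | x
    · norm_num at hx; omega
    · norm_num at hx
      subst hx
      exact hpq (((Nat.prime_dvd_prime_iff_eq hp Nat.prime_three).1 hp1).trans
        ((Nat.prime_dvd_prime_iff_eq hq Nat.prime_three).1 hq1).symm)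
    · rcases y with _ | _ | y <;> simp only [pow_succ, pow_zero] at hx hy <;> omega
  · -- `a` and `a + 2` are odd and coprime
    have hco : ∀ d : ℕ, d.Prime → d ∣ a → ¬ d ∣ a + 2 := fun d hd hda hdd => by
      obtain rfl := no2 d ((Nat.dvd_add_right hda).1 hdd) hd
      omega
    have hqa : ¬ q ∣ a := by
      intro hqa
      by_cases hpa : p ∣ a
      · obtain ⟨y, hy⟩ := exists_eq_pow (r := 2) (show 0 < a + 2 by omega) fun d hd hdd => by
          rcases h2 d hd hdd with rfl | rfl | rfl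
          · rfl
          · exact absurd hdd (hco _ hd hpa)
          · exact absurd hdd (hco _ hd hqa)
        rcases y with _ | y <;> simp only [pow_succ, pow_zero] at hy <;> omega
      · obtain ⟨j, hj⟩ := exists_eq_pow (r := q) (show 0 < a by omega) fun d hd hdd => by
          rcases h0 d hd hdd with rfl | rfl | rfl
          · omega
          · exact absurd hdd hpa
          · rfl
        exact na j hj
    obtain ⟨v, hv⟩ := exists_eq_pow (r := p) (show 0 < a by omega) fun d hd hdd => by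
      rcases h0 d hd hdd with rfl | rfl | rfl
      · omega
      · rfl
      · exact absurd hdd hqa
    have hv0 : v ≠ 0 := fun h => by subst h; norm_num at hv; omega
    have hpa : p ∣ a := hv ▸ dvd_pow_self p hv0
    obtain ⟨w, hw⟩ := exists_eq_pow (r := q) (show 0 < a + 2 by omega) fun d hd hdd => by
      rcases h2 d hd hdd with rfl | rfl | rfl
      · omega
      · exact absurd hdd (hco _ hd hpa)
      · rfl
    have hw0 : w ≠ 0 := fun h => by subst h; norm_num at hw; omega
    obtain ⟨k, hk⟩ := exists_eq_pow (r := 2) (Nat.succ_pos a) fun d hd hdd => by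
      rcases h1 d hd hdd with rfl | rfl | rfl
      · rfl
      · exact absurd (Nat.eq_one_of_dvd_one ((Nat.dvd_add_right hpa).1 hdd)) hd.one_lt.ne'
      · exact absurd (Nat.eq_one_of_dvd_one ((Nat.dvd_add_right hdd).1
          (show d ∣ (a + 1) + 1 from hw ▸ dvd_pow_self d hw0))) hd.one_lt.ne'
    have hk' : a + 1 = 2 ^ k := hk
    -- one of `a`, `a + 2` is a power of three
    have h3 : 3 ∣ a ∨ 3 ∣ a + 2 := by
      by_contra hn
      simp only [Nat.dvd_iff_mod_eq_zero, not_or] at hn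
      have h31 : 3 ∣ a + 1 := Nat.dvd_of_mod_eq_zero (by
        rcases (show a % 3 = 0 ∨ a % 3 = 1 ∨ a % 3 = 2 by omega) with h | h | h <;>
          simp [Nat.add_mod, h] at hn ⊢)
      have : 3 ∣ 2 ^ k := by rwa [hk'] at h31
      have := prime_dvd_pow Nat.prime_three Nat.prime_two this
      omega
    have hap : a = p := by
      rcases h3 with h3 | h3
      · have hp3 : 3 = p := prime_dvd_pow Nat.prime_three hp (hv ▸ h3)
        subst hp3
        have := two_pow_eq_three_pow_add_one (show 2 ^ k = 3 ^ v + 1 by omega)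
        obtain rfl : v = 1 := by omega
        simpa using hv
      · have hq3 : 3 = q := prime_dvd_pow Nat.prime_three hq (hw ▸ h3)
        subst hq3
        have := two_pow_add_one_eq_three_pow (show 2 ^ k + 1 = 3 ^ w by omega)
        interval_cases k <;> norm_num at hk'
        all_goals first | omega |
          exact ((Nat.prime_dvd_prime_iff_eq hp (by
            first | (rw [show a = 3 by omega]; norm_num) | (rw [show a = 7 by omega]; norm_num))).1
              hpa).symm
    have := Nat.le_of_dvd hM' hpM'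
    omega

end Cfsg.Agent.TwoPrime63
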