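import Cfsg.Agent.TwoPrime63.Defs
import Cfsg.Agent.CharDeep.Expand
import Cfsg.Agent.Lib.CharCore.Linear
import Cfsg.Agent.Lib.CharClifford.Central
import Cfsg.Agent.Lib.CharClifford.Galois

/-!
# Class sizes with at most two prime divisors: involutions and norm three virtual characters

A norm three virtual character `1 + A - B`, `B(1) = A(1) + 1`, is evaluated on the products of
two conjugates of an involution.
-/

set_option autoImplicit false
set_option linter.unusedSectionVars false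
set_option linter.style.haveILetI false

namespace Cfsg.Agent.TwoPrime63

open Agent.Ito7 (cent mem_cent)
open scoped ComplexConjugate

universe u

variable {G : Type u} [Group G] [Finite G]

theorem isIntegral_natCast' (n : ℕ) : IsIntegral ℤ (n : ℂ) :=
  map_natCast (algebraMap ℤ ℂ) n ▸ isIntegral_algebraMap

theorem natCard_isConj' (g : G) : Nat.card {x : G // IsConj g x} = (cent g).index := by
  classical
  refine (Nat.card_congr ?_).trans (Nat.card_congr ((MulAction.orbitEquivQuotientStabilizer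
    (ConjAct G) g).trans (Subgroup.quotientEquivOfEq (ConjAct.stabilizer_eq_centralizer g))))
  exact Equiv.setCongr (s := {x | IsConj g x})
    (by ext x; rw [ConjAct.mem_orbit_conjAct, isConj_comm]; rfl)

theorem NormThree.diff {r : ℕ} {θ : G → ℂ} (h : NormThree r θ) (hr : r.Prime) :
    ∃ (A B : Cfsg.IrrCharacter G) (a : ℕ), A ≠ B ∧ (A : G → ℂ) ≠ 1 ∧ (B : G → ℂ) ≠ 1 ∧ 0 < a ∧
      (A : G → ℂ) 1 = a ∧ (B : G → ℂ) 1 = (a + 1 : ℕ) ∧
      ∀ g, θ g = 1 + (A : G → ℂ) g - (B : G → ℂ) g := by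
  obtain ⟨χ, ψ, δ, ε, hne, h1, h2, hδ, hε, hval⟩ := h.shape
  obtain ⟨m, hm0, hm⟩ := CharCore.IsIrrCharacter.exists_degree χ.2
  obtain ⟨n, hn0, hn⟩ := CharCore.IsIrrCharacter.exists_degree ψ.2
  have he := (hval 1).symm.trans (h.vanish 1 (by rw [orderOf_one]; exact hr.not_dvd_one))
  rw [hm, hn] at he
  rcases hδ with rfl | rfl <;> rcases hε with rfl | rfl <;> push_cast at he
  · exfalso
    have : (1 + m + n : ℕ) = (0 : ℂ) := by push_cast; linear_combination he
    simp only [Nat.cast_eq_zero] at this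
    omega
  · refine ⟨χ, ψ, m, hne, h1, h2, hm0, hm, ?_, fun g => by rw [hval]; push_cast; ring⟩
    rw [hn]; push_cast; linear_combination -he
  · refine ⟨ψ, χ, n, hne.symm, h2, h1, hn0, hn, ?_, fun g => by rw [hval]; push_cast; ring⟩
    rw [hm]; push_cast; linear_combination -he
  · exfalso
    have : ((m + n : ℕ) : ℂ) = (1 : ℕ) := by push_cast; linear_combination -he
    rw [Nat.cast_inj] at this
    omega

namespace Setup

variable (S : Setup G)
include S

theorem charKernel_eq_bot {χ : Cfsg.IrrCharacter G} (h1 : (χ : G → ℂ) ≠ 1) :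
    CharCore.charKernel (CharCore.irr_isCharacter χ) = ⊥ := by
  haveI := S.simple
  haveI := Fintype.ofFinite G
  refine ((inferInstance : (CharCore.charKernel (CharCore.irr_isCharacter χ)).Normal
    ).eq_bot_or_eq_top).resolve_right fun htop => ?_
  let triv : Cfsg.IrrCharacter G := ⟨1, CharCore.isIrrCharacter_one⟩
  have hne : χ ≠ triv := fun h => h1 (by rw [h])
  have h0 := CharCore.classInner_irr_of_ne hne
  have hc : ∀ g, (χ : G → ℂ) g = (χ : G → ℂ) 1 := fun g =>
    (CharCore.mem_charKernel (CharCore.irr_isCharacter χ) g).1 (htop ▸ Subgroup.mem_top g)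
  rw [CharCore.classInner_def, Finset.sum_congr rfl fun g _ => by
    rw [hc g, show (triv : G → ℂ) g = 1 from rfl, map_one, mul_one]] at h0
  simp only [Finset.sum_const, Finset.card_univ, nsmul_eq_mul, mul_eq_zero, inv_eq_zero,
    Nat.cast_eq_zero, Fintype.card_ne_zero, false_or] at h0
  rcases h0 with h0 | h0
  · exact Nat.card_pos.ne' h0
  · exact CharCore.irr_apply_one_ne_zero χ h0

theorem two_le_degree {χ : Cfsg.IrrCharacter G} (h1 : (χ : G → ℂ) ≠ 1) {d : ℕ}
    (hd : (χ : G → ℂ) 1 = d) : 2 ≤ d := by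
  obtain ⟨n, hn0, hn⟩ := CharCore.IsIrrCharacter.exists_degree χ.2
  rw [hd, Nat.cast_inj] at hn
  subst hn
  by_contra hlt
  have hd1 : d = 1 := by omega
  subst hd1
  obtain ⟨f, hf⟩ := CharCore.IsCharacter.exists_hom_of_degree_one (CharCore.irr_isCharacter χ)
    (by rw [hd, Nat.cast_one])
  obtain ⟨a, b, hab⟩ := S.nonab
  have hk : f.ker = ⊥ := by
    refine (Subgroup.eq_bot_iff_forall _).2 fun g hg => ?_
    have : g ∈ CharCore.charKernel (CharCore.irr_isCharacter χ) := by
      rw [CharCore.mem_charKernel, hd, Nat.cast_one, hf]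
      show (f g : ℂ) = 1
      rw [MonoidHom.mem_ker.1 hg, Units.val_one]
    rwa [S.charKernel_eq_bot h1, Subgroup.mem_bot] at this
  exact hab ((MonoidHom.ker_eq_bot_iff f).1 hk (by rw [map_mul, map_mul, mul_comm]))

/-- The value of a nontrivial irreducible character at an involution. -/
theorem involution_value {χ : Cfsg.IrrCharacter G} (h1 : (χ : G → ℂ) ≠ 1) {d : ℕ}
    (hd : (χ : G → ℂ) 1 = d) {u : G} (hu : orderOf u = 2) :
    ∃ M : ℕ, 0 < M ∧ M < d ∧ (χ : G → ℂ) u = (d : ℂ) - 2 * M := by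
  classical
  obtain ⟨n, ρ, hρ⟩ := CharCore.irr_isCharacter χ
  have hnd : d = Module.finrank ℂ (Fin n → ℂ) := by
    rw [← hρ, Representation.char_one, Nat.cast_inj] at hd
    exact hd.symm
  obtain ⟨b, ω, hω, hn, hb, hk⟩ := CharCore.exists_eigenvalues ρ u
  have hpm : ∀ i, ω i = 1 ∨ ω i = -1 := fun i => by
    have := hω i
    rw [hu, pow_two] at this
    exact mul_self_eq_one_iff.1 this
  set M := (Finset.univ.filter fun i => ω i = -1).card with hM
  have hval : (χ : G → ℂ) u = (d : ℂ) - 2 * M := by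
    have h' := hk 1
    simp only [pow_one] at h'
    rw [← hρ, h', hnd, hM, Finset.natCast_card_filter, Finset.mul_sum,
      show ((Module.finrank ℂ (Fin n → ℂ) : ℕ) : ℂ) = ∑ _i : Fin (Module.finrank ℂ (Fin n → ℂ)), (1 : ℂ)
        by simp, ← Finset.sum_sub_distrib]
    refine Finset.sum_congr rfl fun i _ => ?_
    rcases hpm i with h | h <;> rw [h] <;> norm_num
  have hu1 : u ≠ 1 := fun h => by rw [h, orderOf_one] at hu; omega
  refine ⟨M, Nat.pos_of_ne_zero fun h0 => hu1 ?_, ?_, hval⟩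
  · have hk : u ∈ CharCore.charKernel (CharCore.irr_isCharacter χ) := by
      rw [CharCore.mem_charKernel, hval, h0, hd]; simp
    rwa [S.charKernel_eq_bot h1, Subgroup.mem_bot] at hk
  · refine lt_of_le_of_ne ?_ fun he => hu1 ?_
    · rw [hnd]; exact (Finset.card_le_univ _).trans (by simp)
    have hnorm : ‖ρ.character u‖ = (Module.finrank ℂ (Fin n → ℂ) : ℝ) := by
      rw [hρ, hval, he, ← hnd, show (d : ℂ) - 2 * d = -((d : ℕ) : ℂ) by ring, norm_neg,
        Complex.norm_natCast]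
    obtain ⟨c, hc⟩ := (CharCore.norm_character_eq_iff ρ u).1 hnorm
    have hcen : u ∈ Subgroup.center G := by
      refine Subgroup.mem_center_iff.2 fun g => ?_
      have hcomm : ρ (g * u) = ρ (u * g) := by
        rw [map_mul, map_mul, hc]
        refine LinearMap.ext fun v => ?_
        simp
      have hker : (u * g)⁻¹ * (g * u) ∈ CharCore.charKernel (CharCore.irr_isCharacter χ) := by
        rw [CharCore.mem_charKernel, ← hρ, Representation.char_one]
        rw [CharCore.character_eq_finrank_iff]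
        rw [map_mul, hcomm, ← map_mul, inv_mul_cancel, map_one]
        rfl
      rw [S.charKernel_eq_bot h1, Subgroup.mem_bot, inv_mul_eq_one] at hker
      exact hker.symm
    rwa [S.center_eq_bot, Subgroup.mem_bot] at hcen

/-- The common eigenvalue multiplicity of a norm three virtual character at an involution. -/
theorem value_pair {r : ℕ} {θ : G → ℂ} (h : NormThree r θ) (hr2 : ¬ r ∣ 2)
    {A B : Cfsg.IrrCharacter G} {a : ℕ} (hA1 : (A : G → ℂ) ≠ 1) (hA : (A : G → ℂ) 1 = a)
    (hval : ∀ g, θ g = 1 + (A : G → ℂ) g - (B : G → ℂ) g) {u : G} (hu : orderOf u = 2) :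
    ∃ M : ℕ, 0 < M ∧ M < a ∧ (A : G → ℂ) u = (a : ℂ) - 2 * M ∧
      (B : G → ℂ) u = (a : ℂ) + 1 - 2 * M := by
  obtain ⟨M, h0, hlt, hM⟩ := S.involution_value hA1 hA hu
  refine ⟨M, h0, hlt, hM, ?_⟩
  have := (hval u).symm.trans (h.vanish u (by rw [hu]; exact hr2))
  rw [hM] at this
  linear_combination -this

/-- The pairs of conjugates of an involution with `r`-singular product, evaluated. -/
theorem pair_sum [Fintype G] {θ : G → ℂ} {A B : Cfsg.IrrCharacter G}
    (hval : ∀ g, θ g = 1 + (A : G → ℂ) g - (B : G → ℂ) g) {a M : ℕ} (ha0 : 0 < a) (hA : (A : G → ℂ) 1 = a)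
    (hB : (B : G → ℂ) 1 = (a + 1 : ℕ)) {u : G} (hAu : (A : G → ℂ) u = (a : ℂ) - 2 * M)
    (hBu : (B : G → ℂ) u = (a : ℂ) + 1 - 2 * M) :
    (∑ x, BlocksCore.conv (BlocksCore.classInd u) (BlocksCore.classInd u) x * θ x) *
      ((a : ℂ) * ((a : ℂ) + 1)) =
    (Nat.card {z : G // IsConj u z} : ℂ) ^ 2 * 4 * (M : ℂ) ^ 2 := by
  let triv : Cfsg.IrrCharacter G := ⟨1, CharCore.isIrrCharacter_one⟩
  have e : ∀ x, BlocksCore.conv (BlocksCore.classInd u) (BlocksCore.classInd u) x * θ x =
      BlocksCore.conv (BlocksCore.classInd u) (BlocksCore.classInd u) x * (triv : G → ℂ) x +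
      BlocksCore.conv (BlocksCore.classInd u) (BlocksCore.classInd u) x * (A : G → ℂ) x -
      BlocksCore.conv (BlocksCore.classInd u) (BlocksCore.classInd u) x * (B : G → ℂ) x := fun x => by
    rw [hval, show (triv : G → ℂ) x = 1 from rfl]; ring
  simp only [e, Finset.sum_add_distrib, Finset.sum_sub_distrib, CharDeep.sum_conv_mul, hA, hB,
    hAu, hBu, show (triv : G → ℂ) u = 1 from rfl, show (triv : G → ℂ) 1 = 1 from rfl]
  have h1 : (a : ℂ) ≠ 0 := Nat.cast_ne_zero.2 ha0.ne'
  have h2 : ((a + 1 : ℕ) : ℂ) ≠ 0 := Nat.cast_ne_zero.2 (Nat.succ_ne_zero a)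
  push_cast at h2 ⊢
  field_simp
  ring

/-- Some conjugate of every involution inverts an `r`-singular element. -/
theorem exists_inverted {r : ℕ} {θ : G → ℂ} (hr : r.Prime) (h : NormThree r θ) (hr2 : r ≠ 2)
    {u : G} (hu : orderOf u = 2) :
    ∃ v g : G, IsConj u v ∧ r ∣ orderOf g ∧ v * g * v⁻¹ = g⁻¹ := by
  haveI := Fintype.ofFinite G
  by_contra hno
  push Not at hno
  obtain ⟨A, B, a, hne, hA1, hB1, ha, hA, hB, hval⟩ := h.diff hr
  obtain ⟨M, hM0, hMa, hAu, hBu⟩ := S.value_pair h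
    (fun hd => hr2 ((Nat.prime_dvd_prime_iff_eq hr Nat.prime_two).1 hd)) hA1 hA hval hu
  have hsum := S.pair_sum hval ha hA hB hAu hBu
  rw [Finset.sum_eq_zero, zero_mul] at hsum
  · rcases mul_eq_zero.1 hsum.symm with h' | h'
    · rcases mul_eq_zero.1 h' with h'' | h''
      · exact CharDeep.class_card_ne_zero u (pow_eq_zero_iff two_ne_zero |>.1 h'')
      · norm_num at h''
    · exact hM0.ne' (Nat.cast_eq_zero.1 (pow_eq_zero_iff two_ne_zero |>.1 h'))
  intro g _
  by_cases hg : r ∣ orderOf g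
  · rw [CharDeep.conv_classInd_apply]
    have : IsEmpty {p : G × G // IsConj u p.1 ∧ IsConj u p.2 ∧ p.1 * p.2 = g} := ⟨fun p => by
      obtain ⟨⟨v, w⟩, hv, hw, hvw⟩ := p
      refine hno v g hv hg ?_
      have hsq : ∀ t, IsConj u t → t * t = 1 := fun t ht => by
        obtain ⟨c, rfl⟩ := isConj_iff.1 ht
        rw [show c * u * c⁻¹ * (c * u * c⁻¹) = c * (u * u) * c⁻¹ by group,
          show u * u = 1 by rw [← pow_two, ← hu, pow_orderOf_eq_one], mul_one, mul_inv_cancel]
      subst hvw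
      show v * (v * w) * v⁻¹ = (v * w)⁻¹
      rw [mul_inv_rev, ← mul_assoc v v, hsq v hv, one_mul,
        inv_eq_of_mul_eq_one_right (hsq v hv), inv_eq_of_mul_eq_one_right (hsq w hw)]⟩
    rw [Nat.card_of_isEmpty, Nat.cast_zero, zero_mul]
  · rw [h.vanish g hg, mul_zero]

/-- Divisibility for an involution centralizing a full Sylow `q`-subgroup. -/
theorem dvd_multiplicity {r q : ℕ} (hq : q.Prime) (hq2 : q ≠ 2) (hqG : q ∣ Nat.card G) {θ : G → ℂ}
    (h : NormThree r θ) (hsing : ∀ g : G, r ∣ orderOf g → ¬ q ∣ Nat.card (cent g))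
    {u : G} (hu : orderOf u = 2) (hF : ¬ q ∣ (cent u).index)
    {A B : Cfsg.IrrCharacter G} {a M : ℕ} (ha0 : 0 < a) (hA : (A : G → ℂ) 1 = a)
    (hB : (B : G → ℂ) 1 = (a + 1 : ℕ)) (hval : ∀ g, θ g = 1 + (A : G → ℂ) g - (B : G → ℂ) g)
    (hAu : (A : G → ℂ) u = (a : ℂ) - 2 * M) (hBu : (B : G → ℂ) u = (a : ℂ) + 1 - 2 * M) :
    q ∣ M ∧ ∀ j, (q ^ j ∣ a ∨ q ^ j ∣ a + 1) → q ^ j ∣ M := by
  classical
  haveI := Fintype.ofFinite G
  haveI : Fintype (ConjClasses G) := Fintype.ofFinite _
  set n := (Nat.card G).factorization q with hn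
  set F : G → ℂ := fun x =>
    BlocksCore.conv (BlocksCore.classInd u) (BlocksCore.classInd u) x * θ x with hFdef
  have hFint : ∀ x, IsIntegral ℤ (F x) := fun x => by
    refine IsIntegral.mul ?_ (CharCore.IsGeneralizedCharacter.isIntegral h.gen x)
    rw [CharDeep.conv_classInd_apply]
    exact isIntegral_natCast' _
  have hFcls : ∀ x c, F (c * x * c⁻¹) = F x := fun x c => by
    simp only [hFdef, BlocksCore.isClassFunction_conv (BlocksCore.isClassFunction_classInd u)
      (BlocksCore.isClassFunction_classInd u) x c,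
      CharCore.IsGeneralizedCharacter.isClassFunction h.gen x c]
  -- the sum is divisible by `q ^ n`
  obtain ⟨η, hη, hSη⟩ : ∃ η : ℂ, IsIntegral ℤ η ∧ ∑ x, F x = ((q ^ n : ℕ) : ℂ) * η := by
    have hfib : ∀ C : ConjClasses G, ∃ η : ℂ, IsIntegral ℤ η ∧
        ∑ x ∈ Finset.univ.filter (fun x => ConjClasses.mk x = C), F x = ((q ^ n : ℕ) : ℂ) * η := by
      intro C
      obtain ⟨g, rfl⟩ := ConjClasses.exists_rep C
      have hconst : ∀ x ∈ Finset.univ.filter (fun x => ConjClasses.mk x = ConjClasses.mk g),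
          F x = F g := fun x hx => by
        obtain ⟨c, hc⟩ := isConj_iff.1 (ConjClasses.mk_eq_mk_iff_isConj.1 (Finset.mem_filter.1 hx).2)
        rw [← hc, hFcls]
      rw [Finset.sum_congr rfl hconst, Finset.sum_const, nsmul_eq_mul]
      by_cases hg : r ∣ orderOf g
      swap
      · exact ⟨0, isIntegral_zero, by simp [hFdef, h.vanish g hg]⟩
      have hcard : (Finset.univ.filter (fun x => ConjClasses.mk x = ConjClasses.mk g)).card =
          (cent g).index := by
        rw [show cent g = Subgroup.centralizer ({g} : Set G) from rfl,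
          ← natCard_isConj' g, Nat.card_eq_fintype_card, Fintype.card_subtype]
        refine congrArg Finset.card (Finset.filter_congr fun x _ => ?_)
        rw [ConjClasses.mk_eq_mk_iff_isConj]
        exact ⟨IsConj.symm, IsConj.symm⟩
      have hdvd : q ^ n ∣ (cent g).index := by
        have h1 : q ^ n ∣ Nat.card (cent g) * (cent g).index := by
          rw [(cent g).card_mul_index, hn]
          exact Nat.ordProj_dvd (Nat.card G) q
        refine Nat.Coprime.dvd_of_dvd_mul_left ?_ h1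
        exact Nat.Coprime.pow_left _ ((Nat.Prime.coprime_iff_not_dvd hq).2 (hsing g hg))
      obtain ⟨e, he⟩ := hdvd
      refine ⟨(e : ℂ) * F g, (isIntegral_natCast' _).mul (hFint g), ?_⟩
      rw [hcard, he]; push_cast; ring
    choose η hη hsum using hfib
    refine ⟨∑ C, η C, IsIntegral.sum _ fun C _ => hη C, ?_⟩
    rw [← Finset.sum_fiberwise Finset.univ ConjClasses.mk F, Finset.mul_sum]
    exact Finset.sum_congr rfl fun C _ => hsum C
  have hsum := S.pair_sum hval ha0 hA hB hAu hBu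
  change (∑ x, F x) * _ = _ at hsum
  rw [hSη] at hsum
  set K := Nat.card {z : G // IsConj u z} with hK
  set den : ℕ := q ^ n * (a * (a + 1)) with hden
  have hden0 : den ≠ 0 :=
    Nat.mul_ne_zero (pow_ne_zero _ hq.ne_zero) (Nat.mul_ne_zero ha0.ne' (Nat.succ_ne_zero a))
  have hdC : (den : ℂ) * η = ((K ^ 2 * 4 * M ^ 2 : ℕ) : ℂ) := by
    rw [hden]; push_cast at hsum ⊢; linear_combination hsum
  obtain ⟨k, hk⟩ := CharClifford.exists_int_of_isIntegral_rat
    (q := ((K ^ 2 * 4 * M ^ 2 : ℕ) : ℚ) / (den : ℚ)) (by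
      have : ((((K ^ 2 * 4 * M ^ 2 : ℕ) : ℚ) / (den : ℚ) : ℚ) : ℂ) = η := by
        rw [Rat.cast_div, Rat.cast_natCast, Rat.cast_natCast, div_eq_iff (Nat.cast_ne_zero.2 hden0),
          ← hdC, mul_comm]
      rw [this]; exact hη)
  have hdvd : den ∣ K ^ 2 * 4 * M ^ 2 := by
    rw [← Int.natCast_dvd_natCast]
    refine ⟨k, ?_⟩
    rw [div_eq_iff (Nat.cast_ne_zero.2 hden0)] at hk
    have : (((K ^ 2 * 4 * M ^ 2 : ℕ) : ℤ) : ℚ) = (((den : ℤ) * k : ℤ) : ℚ) := by
      push_cast at hk ⊢; linear_combination hk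
    exact_mod_cast this
  have hKq : ¬ q ∣ K := by
    rwa [hK, natCard_isConj']
  have hcop : ∀ j, (q ^ j).Coprime (K ^ 2 * 4) := fun j =>
    Nat.Coprime.pow_left j (Nat.Coprime.mul_right
      (Nat.Coprime.pow_right 2 ((Nat.Prime.coprime_iff_not_dvd hq).2 hKq))
      (((Nat.coprime_primes hq Nat.prime_two).2 hq2).pow_right 2 : q.Coprime (2 ^ 2)))
  have hn0 : n ≠ 0 := (hq.factorization_pos_of_dvd Nat.card_pos.ne' hqG).ne'
  refine ⟨?_, fun j hj => ?_⟩
  · have h1 : q ^ 1 ∣ K ^ 2 * 4 * M ^ 2 :=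
      ((pow_dvd_pow q (Nat.one_le_iff_ne_zero.2 hn0)).trans (Dvd.intro _ hden.symm)).trans hdvd
    exact hq.dvd_of_dvd_pow ((hcop 1).dvd_of_dvd_mul_left h1 |> (pow_one q ▸ ·))
  · have hjn : q ^ j ∣ q ^ n := by
      have hdeg : q ^ j ∣ Nat.card G := by
        rcases hj with hj | hj
        · obtain ⟨d, -, hd, hd'⟩ := CharClifford.exists_degree_dvd_card A.2
          rw [hA, Nat.cast_inj] at hd'
          exact hj.trans (hd' ▸ hd)
        · obtain ⟨d, -, hd, hd'⟩ := CharClifford.exists_degree_dvd_card B.2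
          rw [hB, Nat.cast_inj] at hd'
          exact hj.trans (hd' ▸ hd)
      exact pow_dvd_pow q ((hq.pow_dvd_iff_le_factorization Nat.card_pos.ne').1 hdeg)
    have h2 : q ^ j * q ^ j ∣ den := by
      rw [hden]
      exact mul_dvd_mul hjn (hj.elim (fun h => h.trans (dvd_mul_right _ _))
        fun h => h.trans (dvd_mul_left _ _))
    rw [← pow_add, ← two_mul] at h2
    have h3 := (hcop (2 * j)).dvd_of_dvd_mul_left (h2.trans hdvd)
    rw [mul_comm 2 j, pow_mul] at h3
    exact (Nat.pow_dvd_pow_iff two_ne_zero).1 h3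

end Setup

end Cfsg.Agent.TwoPrime63
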