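import Cfsg.Agent.TwoPrime63.Defs
import Cfsg.Agent.Lib.CharCore.Linear
import Cfsg.Agent.Lib.CharCore.Complete
import Cfsg.Agent.Lib.CharInd.Brauer

/-!
# The norm three virtual character of an abelian Sylow subgroup with inversion fusion
-/

set_option autoImplicit false

open scoped ComplexConjugate

namespace Cfsg.Agent.TwoPrime63

open Cfsg.Agent.CharCore

universe u

variable {G : Type u} [Group G] [Fintype G] {r : ℕ} {R : Subgroup G}

/-- A virtual character of norm three with inner product one with `1` is `1 + δχ + εψ`. -/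
theorem shape_of_norm_three {θ : G → ℂ} (hθ : Cfsg.IsGeneralizedCharacter G θ)
    (h3 : Cfsg.classInner θ θ = 3) (h1 : Cfsg.classInner θ 1 = 1) :
    ∃ (χ ψ : Cfsg.IrrCharacter G) (δ ε : ℤ), χ ≠ ψ ∧ (χ : G → ℂ) ≠ 1 ∧ (ψ : G → ℂ) ≠ 1 ∧
      (δ = 1 ∨ δ = -1) ∧ (ε = 1 ∨ ε = -1) ∧
      ∀ g : G, θ g = 1 + (δ : ℂ) * (χ : G → ℂ) g + (ε : ℂ) * (ψ : G → ℂ) g := by
  classical
  choose c hc using fun χ : Cfsg.IrrCharacter G =>
    IsGeneralizedCharacter.exists_classInner_eq_intCast hθ (irr_isGeneralized χ)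
  have hθc := IsGeneralizedCharacter.isClassFunction hθ
  set triv : Cfsg.IrrCharacter G := ⟨1, isIrrCharacter_one⟩
  have hct : c triv = 1 := by
    have h : Cfsg.classInner θ (triv : G → ℂ) = 1 := h1
    rw [hc triv] at h
    exact_mod_cast h
  have hexp : ∀ z : G, θ z = ∑ χ : Cfsg.IrrCharacter G, (c χ : ℂ) * (χ : G → ℂ) z := fun z => by
    conv_lhs => rw [eq_sum_classInner hθc]
    simp [Finset.sum_apply, smul_eq_mul, hc]
  have hnorm : ∑ χ : Cfsg.IrrCharacter G, c χ * c χ = 3 := by
    have h := classInner_eq_sum hθc hθc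
    rw [h3] at h
    simp only [hc, map_intCast] at h
    exact_mod_cast h.symm
  set S := (Finset.univ.erase triv).filter fun χ => c χ ≠ 0 with hSdef
  have hSsum : ∑ χ ∈ S, c χ * c χ = 2 := by
    rw [Finset.sum_filter_of_ne (p := fun χ => c χ ≠ 0)
      (fun χ _ hne h0 => hne (by rw [h0, mul_zero]))]
    have := Finset.sum_erase_add Finset.univ (fun χ => c χ * c χ) (Finset.mem_univ triv)
    simp only [hnorm, hct, mul_one] at this
    linarith
  have hS1 : ∀ χ ∈ S, c χ = 1 ∨ c χ = -1 := by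
    intro χ hχ
    have hne := (Finset.mem_filter.mp hχ).2
    have hle := Finset.single_le_sum (f := fun χ => c χ * c χ)
      (fun y _ => mul_self_nonneg (c y)) hχ
    simp only [hSsum] at hle
    have hlo : -1 ≤ c χ := by nlinarith
    have hhi : c χ ≤ 1 := by nlinarith
    omega
  have hScard : S.card = 2 := by
    have h2 := hSsum
    rw [Finset.sum_congr rfl (g := fun _ => (1 : ℤ)) (fun χ hχ => by
      rcases hS1 χ hχ with h | h <;> rw [h] <;> norm_num)] at h2
    simp only [Finset.sum_const, nsmul_eq_mul, mul_one] at h2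
    exact_mod_cast h2
  obtain ⟨χ, ψ, hne, hS⟩ := Finset.card_eq_two.mp hScard
  have hmem : ∀ φ ∈ S, (φ : G → ℂ) ≠ 1 := fun φ hφ he =>
    (Finset.mem_erase.mp (Finset.mem_filter.mp hφ).1).1 (Subtype.ext he)
  refine ⟨χ, ψ, c χ, c ψ, hne, hmem χ (by rw [hS]; simp), hmem ψ (by rw [hS]; simp),
    hS1 χ (by rw [hS]; simp), hS1 ψ (by rw [hS]; simp), fun g => ?_⟩
  rw [hexp, ← Finset.sum_erase_add _ _ (Finset.mem_univ triv), hct, Int.cast_one, one_mul,
    ← Finset.sum_filter_of_ne (p := fun φ => c φ ≠ 0)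
      (fun φ _ h0 hc0 => h0 (by rw [hc0, Int.cast_zero, zero_mul])), ← hSdef, hS,
    Finset.sum_pair hne]
  simp only [triv, Pi.one_apply]
  ring

/-- A non-trivial linear character of an abelian group, as a statement. -/
theorem exists_hom_ne_one (hR : R ≠ ⊥) (hcomm : ∀ x ∈ R, ∀ y ∈ R, x * y = y * x) :
    ∃ (f : R →* ℂˣ) (a : R), f a ≠ 1 := by
  obtain ⟨a, haR, ha⟩ := R.bot_or_exists_ne_one.resolve_left hR
  letI : CommGroup R :=
    { (inferInstance : Group R) with
      mul_comm := fun x y => Subtype.ext (hcomm x x.2 y y.2) }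
  haveI : NeZero ((Monoid.exponent R : ℕ) : ℂ) :=
    ⟨Nat.cast_ne_zero.mpr Monoid.exponent_ne_zero_of_finite⟩
  obtain ⟨f, hf⟩ := CommGroup.exists_apply_ne_one_of_hasEnoughRootsOfUnity R ℂ
    (a := ⟨a, haR⟩) (fun h => ha (congrArg Subtype.val h))
  exact ⟨f, _, hf⟩

/-- The exponent picking out the `r`-part of an element. -/
theorem exists_part_exp (hr : r.Prime) (hR : IsPGroup r R) (hsyl : ¬ r ∣ R.index) :
    ∃ m : ℕ, R.index ∣ m ∧ (∀ x : G, x ^ Nat.card R = 1 → x ^ m = x) ∧
      (∀ x : G, (x ^ m) ^ Nat.card R = 1) ∧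
      (R ≠ ⊥ → ∀ c : G, ¬ r ∣ orderOf c ↔ c ^ m = 1) := by
  haveI : Fact r.Prime := ⟨hr⟩
  obtain ⟨n, hn⟩ := IsPGroup.iff_card.mp hR
  have hHall : Nat.Coprime (Nat.card R) R.index := by
    rw [hn]; exact Nat.Coprime.pow_left n ((Nat.Prime.coprime_iff_not_dvd hr).mpr hsyl)
  obtain ⟨m, hm1, hm0'⟩ := Nat.chineseRemainder hHall 1 0
  have hm0 : R.index ∣ m := Nat.modEq_zero_iff_dvd.mp hm0'
  refine ⟨m, hm0, fun x hx => ?_, fun x => ?_, fun hne c => ?_⟩
  · conv_rhs => rw [← pow_one x]
    exact pow_eq_pow_iff_modEq.mpr (hm1.of_dvd (orderOf_dvd_of_pow_eq_one hx))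
  · obtain ⟨t, rfl⟩ := hm0
    rw [← pow_mul, show R.index * t * Nat.card R = Nat.card G * t by
      rw [← R.card_mul_index]; ring, pow_mul, pow_card_eq_one', one_pow]
  · constructor
    · intro hc
      refine orderOf_dvd_iff_pow_eq_one.mp (dvd_trans ?_ hm0)
      have h1 : Nat.Coprime (orderOf c) (Nat.card R) := by
        rw [hn]; exact Nat.Coprime.pow_right n ((Nat.Prime.coprime_iff_not_dvd hr).mpr hc).symm
      exact h1.dvd_of_dvd_mul_left (R.card_mul_index.symm ▸ orderOf_dvd_natCard c)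
    · intro hc hdvd
      have h1 : r ∣ m := hdvd.trans (orderOf_dvd_of_pow_eq_one hc)
      have h2 : r ∣ Nat.card R := by
        rw [hn]
        refine dvd_pow_self r fun h0 => hne ?_
        exact Subgroup.card_eq_one.mp (by rw [hn, h0, pow_zero])
      have h3 : (1 : ℕ) ≡ 0 [MOD r] :=
        (hm1.of_dvd h2).symm.trans (Nat.modEq_zero_iff_dvd.mpr h1)
      exact hr.not_dvd_one (Nat.modEq_zero_iff_dvd.mp h3)

/-- A subgroup of order dividing that of a Sylow subgroup is conjugate into it. -/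
theorem exists_conj_le (hr : r.Prime) (hR : IsPGroup r R) (hsyl : ¬ r ∣ R.index)
    (K : Subgroup G) (hK : Nat.card K ∣ Nat.card R) :
    ∃ c : G, K.map (MulAut.conj c).toMonoidHom ≤ R := by
  haveI : Fact r.Prime := ⟨hr⟩
  obtain ⟨n, hn⟩ := IsPGroup.iff_card.mp hR
  obtain ⟨j, -, hj⟩ := (Nat.dvd_prime_pow hr).mp (hn ▸ hK)
  obtain ⟨P, hP⟩ := (IsPGroup.of_card hj).exists_le_sylow
  let T : Sylow r G := hR.toSylow hsyl
  obtain ⟨c, hc⟩ := MulAction.exists_smul_eq G P T
  refine ⟨c, fun x hx => ?_⟩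
  obtain ⟨y, hy, rfl⟩ := hx
  have h1 : ((c • P : Sylow r G) : Subgroup G) = R := by rw [hc]; rfl
  rw [← h1, Sylow.coe_subgroup_smul]
  exact Subgroup.mem_map_of_mem _ (hP hy)

/-- A power map on an elementary subgroup is a homomorphism. -/
theorem pow_hom_of_elementary {m p : ℕ} (hp : p.Prime)
    (hcop : Nat.Coprime (Nat.card R) R.index) (hm0 : R.index ∣ m)
    (hfix : ∀ x : G, x ^ Nat.card R = 1 → x ^ m = x) (E : Subgroup G)
    (hE : Cfsg.IsElementary p E) :
    ∀ x y : E, (x * y) ^ m = x ^ m * y ^ m := by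
  obtain ⟨z, hzc, hzp, k, hk⟩ := hE
  haveI : Fact p.Prime := ⟨hp⟩
  let P : Sylow p E := default
  have hE' : Nat.card E = orderOf z * p ^ k := by
    rw [← hk, ← Nat.card_zpowers z]; exact (Subgroup.card_mul_index _).symm
  have hP : Nat.card P = p ^ k := by
    rw [P.card_eq_multiplicity, hE',
      Nat.factorization_mul (orderOf_pos z).ne' (pow_ne_zero _ hp.ne_zero), Finsupp.add_apply,
      Nat.factorization_eq_zero_of_not_dvd
        ((Nat.Prime.coprime_iff_not_dvd hp).mp hzp.symm), hp.factorization_pow,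
      Finsupp.single_eq_same, zero_add]
  have hcompl : Subgroup.IsComplement' (Subgroup.zpowers z) (P : Subgroup E) := by
    refine Subgroup.isComplement'_of_coprime ?_ ?_
    · rw [Nat.card_zpowers, hE']; exact congrArg _ hP
    · rw [Nat.card_zpowers]; exact hP.symm ▸ Nat.Coprime.pow_right k hzp
  have hdvd : p ^ k ∣ Nat.card R * R.index := by
    rw [R.card_mul_index]
    exact (dvd_mul_left _ _).trans (hE' ▸ E.card_subgroup_dvd_card)
  have hmulP : ∀ u v : E, u ∈ (P : Subgroup E) → v ∈ (P : Subgroup E) →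
      (u * v) ^ m = u ^ m * v ^ m := by
    have hord : ∀ w : E, w ∈ (P : Subgroup E) → (w : G) ^ p ^ k = 1 := by
      intro w hw
      have h1 := congrArg (fun t : (P : Subgroup E) => ((t : E) : G))
        (pow_card_eq_one' (x := (⟨w, hw⟩ : (P : Subgroup E))))
      rw [hP] at h1
      simpa only [SubmonoidClass.coe_pow, OneMemClass.coe_one] using h1
    intro u v hu hv
    by_cases hpH : p ∣ Nat.card R
    · have hc : Nat.Coprime (p ^ k) R.index := Nat.Coprime.pow_left k
        (Nat.Coprime.coprime_dvd_left hpH hcop)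
      obtain ⟨t, ht⟩ := hc.dvd_of_dvd_mul_right hdvd
      have hw : ∀ w : E, w ∈ (P : Subgroup E) → w ^ m = w := fun w hw => Subtype.ext (by
        rw [SubmonoidClass.coe_pow]
        exact hfix _ (by rw [ht, pow_mul, hord w hw, one_pow]))
      rw [hw u hu, hw v hv, hw _ (mul_mem hu hv)]
    · have hc : Nat.Coprime (p ^ k) (Nat.card R) := Nat.Coprime.pow_left k
        ((Nat.Prime.coprime_iff_not_dvd hp).mpr hpH)
      obtain ⟨t, ht⟩ := (hc.dvd_of_dvd_mul_left hdvd).trans hm0
      have hw : ∀ w : E, w ∈ (P : Subgroup E) → w ^ m = 1 := fun w hw => Subtype.ext (by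
        rw [SubmonoidClass.coe_pow, ht, pow_mul, hord w hw, one_pow, OneMemClass.coe_one])
      rw [hw u hu, hw v hv, hw _ (mul_mem hu hv), one_mul]
  have hcen : ∀ c : Subgroup.zpowers z, ∀ a : E, Commute (c : E) a := fun c a =>
    (Subgroup.mem_center_iff.mp (Subgroup.zpowers_le.mpr hzc c.2) a).symm
  intro x y
  obtain ⟨⟨c, u⟩, rfl⟩ := hcompl.2 x
  obtain ⟨⟨d, v⟩, rfl⟩ := hcompl.2 y
  dsimp only
  rw [show (c : E) * u * (d * v) = (c : E) * d * (u * v) by
    rw [mul_assoc, mul_assoc (c : E), ← mul_assoc (u : E), (hcen d u).symm.eq, mul_assoc],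
    ((hcen c _).mul_left (hcen d _)).mul_pow, (hcen c _).mul_pow, hmulP u v u.2 v.2,
    (hcen c u).mul_pow, (hcen d v).mul_pow, mul_assoc, mul_assoc (_ ^ m),
    ← mul_assoc ((u : E) ^ m), (((hcen d u).symm).pow_pow m m).eq, mul_assoc]

/-- Elements whose `r`-part is conjugate to `y`. -/
theorem card_part_class {m : ℕ} (y : G) (hy : y ^ m = y) (hC : ∀ c : G, ¬ r ∣ orderOf c ↔ c ^ m = 1)
    {k : ℕ} (hk : Nat.card {g : G // g ∈ Subgroup.centralizer ({y} : Set G) ∧ ¬ r ∣ orderOf g} * k =
      Nat.card (Subgroup.centralizer ({y} : Set G))) :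
    Nat.card {g : G // IsConj y (g ^ m)} * k = Nat.card G := by
  classical
  have efib : Nat.card {g : G // g ^ m = y} =
      Nat.card {g : G // g ∈ Subgroup.centralizer ({y} : Set G) ∧ ¬ r ∣ orderOf g} := by
    refine Nat.card_congr
      { toFun := fun g => ⟨g.1 * y⁻¹, ?_, ?_⟩
        invFun := fun c => ⟨c.1 * y, ?_⟩
        left_inv := fun g => Subtype.ext (by simp)
        right_inv := fun c => Subtype.ext (by simp) }
    · have hgy : Commute g.1 y := by
        have := Commute.self_pow g.1 m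
        rwa [g.2] at this
      exact Subgroup.mem_centralizer_singleton_iff.mpr
        ((hgy.mul_left ((Commute.refl y).inv_left)).eq)
    · have hgy : Commute g.1 y⁻¹ := by
        have := Commute.self_pow g.1 m
        rw [g.2] at this
        exact this.inv_right
      rw [hC, hgy.mul_pow, g.2, inv_pow, hy, mul_inv_cancel]
    · have hcy : Commute c.1 y := Subgroup.mem_centralizer_singleton_iff.mp c.2.1
      rw [hcy.mul_pow, (hC _).mp c.2.2, hy, one_mul]
  have econj : ∀ a : G, Nat.card {g : G // a * y * a⁻¹ = g ^ m} = Nat.card {g : G // g ^ m = y} := by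
    intro a
    refine Nat.card_congr
      { toFun := fun g => ⟨a⁻¹ * g.1 * a, ?_⟩
        invFun := fun g => ⟨a * g.1 * a⁻¹, ?_⟩
        left_inv := fun g => Subtype.ext (by simp [mul_assoc])
        right_inv := fun g => Subtype.ext (by simp [mul_assoc]) }
    · have := conj_pow (a := a⁻¹) (b := g.1) (i := m)
      rw [inv_inv] at this
      rw [this, ← g.2]; group
    · rw [conj_pow, g.2]
  have ecent : ∀ g : G, Nat.card {a : G // a * y * a⁻¹ = g ^ m} =
      if IsConj y (g ^ m) then Nat.card (Subgroup.centralizer ({y} : Set G)) else 0 := by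
    intro g
    split_ifs with h
    · obtain ⟨a₀, ha₀⟩ := isConj_iff.mp h
      refine Nat.card_congr
        { toFun := fun a => ⟨a₀⁻¹ * a.1, ?_⟩
          invFun := fun c => ⟨a₀ * c.1, ?_⟩
          left_inv := fun a => Subtype.ext (by simp)
          right_inv := fun c => Subtype.ext (by simp) }
      · refine Subgroup.mem_centralizer_singleton_iff.mpr ?_
        have h1 : a.1 * y * a.1⁻¹ = a₀ * y * a₀⁻¹ := a.2.trans ha₀.symm
        calc a₀⁻¹ * a.1 * y = a₀⁻¹ * (a.1 * y * a.1⁻¹) * a.1 := by group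
          _ = y * (a₀⁻¹ * a.1) := by rw [h1]; group
      · rw [← ha₀]
        have h1 := Subgroup.mem_centralizer_singleton_iff.mp c.2
        calc a₀ * c.1 * y * (a₀ * c.1)⁻¹ = a₀ * (c.1 * y) * (c.1⁻¹ * a₀⁻¹) := by group
          _ = a₀ * y * a₀⁻¹ := by rw [h1]; group
    · haveI : IsEmpty {a : G // a * y * a⁻¹ = g ^ m} :=
        ⟨fun a => h (isConj_iff.mpr ⟨a.1, a.2⟩)⟩
      simp
  have hcount : Nat.card {g : G // IsConj y (g ^ m)} *
      Nat.card (Subgroup.centralizer ({y} : Set G)) =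
      Nat.card G * Nat.card {g : G // g ^ m = y} := by
    calc _ = ∑ g : G, Nat.card {a : G // a * y * a⁻¹ = g ^ m} := by
            simp only [ecent, ← Finset.sum_filter, Finset.sum_const, smul_eq_mul]
            rw [Nat.card_eq_fintype_card (α := {g : G // IsConj y (g ^ m)}), Fintype.card_subtype]
      _ = Nat.card ((g : G) × {a : G // a * y * a⁻¹ = g ^ m}) := Nat.card_sigma.symm
      _ = Nat.card ((a : G) × {g : G // a * y * a⁻¹ = g ^ m}) := Nat.card_congr
            { toFun := fun x => ⟨x.2.1, x.1, x.2.2⟩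
              invFun := fun x => ⟨x.2.1, x.1, x.2.2⟩
              left_inv := fun x => rfl
              right_inv := fun x => rfl }
      _ = ∑ a : G, Nat.card {g : G // a * y * a⁻¹ = g ^ m} := Nat.card_sigma
      _ = _ := by simp only [econj, Finset.sum_const, Finset.card_univ, smul_eq_mul,
            Nat.card_eq_fintype_card (α := G)]
  refine Nat.eq_of_mul_eq_mul_left (Nat.card_pos
    (α := Subgroup.centralizer ({y} : Set G))) ?_
  rw [← mul_assoc, mul_comm (Nat.card (Subgroup.centralizer _)), hcount, efib, mul_assoc, hk,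
    mul_comm]

theorem exists_normThree {G : Type u} [Group G] [Fintype G] {r : ℕ} {R : Subgroup G}
    (h : SecHyp r R) : ∃ θ : G → ℂ, NormThree r θ := by
  classical
  haveI : Fact r.Prime := ⟨h.prime⟩
  obtain ⟨n, hn⟩ := IsPGroup.iff_card.mp h.pgroup
  have hHall : Nat.Coprime (Nat.card R) R.index := by
    rw [hn]; exact Nat.Coprime.pow_left n ((Nat.Prime.coprime_iff_not_dvd h.prime).mpr h.sylow)
  obtain ⟨m, hm0, hfix, hpi, hC'⟩ := exists_part_exp h.prime h.pgroup h.sylow
  have hC := hC' h.ne_bot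
  have hfixR : ∀ y : R, (y : G) ^ m = y := fun y =>
    hfix _ (congrArg Subtype.val (pow_card_eq_one' (x := y)))
  have hodd : ∀ y : R, y ≠ 1 → (y : G)⁻¹ ≠ y := by
    intro y hy he
    have h2 : y ^ 2 = 1 := Subtype.ext (by
      rw [SubmonoidClass.coe_pow, pow_two, OneMemClass.coe_one]
      nth_rw 1 [← he]
      rw [inv_mul_cancel])
    obtain ⟨j, hj⟩ := h.pgroup y
    have h3 : orderOf y ∣ Nat.gcd 2 (r ^ j) :=
      Nat.dvd_gcd (orderOf_dvd_of_pow_eq_one h2) (orderOf_dvd_of_pow_eq_one hj)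
    rw [(Nat.Coprime.pow_right j ((Nat.coprime_primes Nat.prime_two h.prime).mpr
      (Ne.symm h.odd))).gcd_eq_one, Nat.dvd_one, orderOf_eq_one_iff] at h3
    exact hy h3
  have hex : ∀ g : G, ∃ y : R, IsConj (g ^ m) (y : G) := by
    intro g
    obtain ⟨c, hc⟩ := exists_conj_le h.prime h.pgroup h.sylow (Subgroup.zpowers (g ^ m))
      (by rw [Nat.card_zpowers]; exact orderOf_dvd_of_pow_eq_one (hpi g))
    exact ⟨⟨c * g ^ m * c⁻¹, hc ⟨g ^ m, Subgroup.mem_zpowers _, rfl⟩⟩, isConj_iff.mpr ⟨c, rfl⟩⟩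
  choose hh hhh using hex
  obtain ⟨f, a, hfa⟩ := exists_hom_ne_one h.ne_bot h.comm
  let psi : R → ℂ := fun y => 2 - (f y : ℂ) - ((f y : ℂ))⁻¹
  have hpsi_inv : ∀ y : R, psi y⁻¹ = psi y := fun y => by
    simp only [psi, map_inv, Units.val_inv_eq_inv_val, inv_inv]; ring
  have hsym : ∀ φ : R → ℂ, (∀ y, φ y⁻¹ = φ y) → ∀ y y' : R, IsConj (y : G) (y' : G) →
      φ y = φ y' := by
    intro φ hφ y y' hc
    rcases h.fus _ y.2 _ y'.2 hc with he | he
    · rw [Subtype.ext he]
    · rw [show y' = y⁻¹ from Subtype.ext he, hφ]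
  refine ⟨fun g => psi (hh g), ?_⟩
  have hcl : Cfsg.IsClassFunction G fun g => psi (hh g) := by
    intro g x
    refine hsym psi hpsi_inv _ _ ((hhh _).symm.trans ?_)
    refine IsConj.trans ?_ (hhh g)
    exact (isConj_iff.mpr ⟨x, by rw [conj_pow]⟩ : IsConj (g ^ m) ((x * g * x⁻¹) ^ m)).symm
  have hpsig : Cfsg.IsGeneralizedCharacter R psi := by
    have h1 : ∀ e : R →* ℂˣ, Cfsg.IsGeneralizedCharacter R fun y => (e y : ℂ) := fun e =>
      irr_isGeneralized ⟨_, isIrrCharacter_hom e⟩
    have e : psi = ((1 + 1) - fun y => (f y : ℂ)) - fun y => ((f⁻¹ : R →* ℂˣ) y : ℂ) := by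
      funext y
      simp only [psi, Pi.sub_apply, Pi.add_apply, Pi.one_apply, MonoidHom.inv_apply,
        Units.val_inv_eq_inv_val]
      ring
    rw [e]
    exact isGeneralized_sub (isGeneralized_sub (isGeneralized_add isGeneralized_one isGeneralized_one)
      (h1 f)) (h1 f⁻¹)
  have hgen : Cfsg.IsGeneralizedCharacter G fun g => psi (hh g) := by
    refine CharInd.isGeneralizedCharacter_of_elementary hcl ?_
    intro E p hp hE
    have hhom := pow_hom_of_elementary hp hHall hm0 hfix E hE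
    let q : E →* G :=
      { toFun := fun x => (x : G) ^ m
        map_one' := by simp
        map_mul' := fun x y => by simpa using congrArg Subtype.val (hhom x y) }
    have hcard : Nat.card q.range ∣ Nat.card R := by
      refine Nat.Coprime.dvd_of_dvd_mul_right ?_
        (R.card_mul_index.symm ▸ q.range.card_subgroup_dvd_card)
      refine Nat.coprime_of_dvd fun s hs h1 h2 => ?_
      haveI : Fact s.Prime := ⟨hs⟩
      obtain ⟨w, hw⟩ := exists_prime_orderOf_dvd_card' s h1
      obtain ⟨w₀, hw₀⟩ := w.2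
      have h3 : orderOf w ∣ Nat.card R := by
        rw [← Subgroup.orderOf_coe, ← hw₀]
        exact orderOf_dvd_of_pow_eq_one (hpi _)
      rw [hw] at h3
      exact hs.not_dvd_one (hHall ▸ Nat.dvd_gcd h3 h2)
    obtain ⟨c, hc⟩ := exists_conj_le h.prime h.pgroup h.sylow q.range hcard
    let e' : E →* R := ((MulAut.conj c).toMonoidHom.comp q).codRestrict R fun x =>
      hc ⟨q x, ⟨x, rfl⟩, rfl⟩
    have heq : (fun e : E => psi (hh (e : G))) = fun e => psi (e' e) :=
      funext fun e => hsym psi hpsi_inv _ _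
        ((hhh _).symm.trans (isConj_iff.mpr ⟨c, rfl⟩))
    rw [heq]
    exact isGeneralized_comp hpsig e'
  have hh1 : ∀ g : G, ¬ r ∣ orderOf g → hh g = 1 := by
    intro g hg
    have h1 := hhh g
    rw [(hC g).mp hg, isConj_one_right] at h1
    exact Subtype.ext h1
  have hpsi1 : psi 1 = 0 := by simp only [psi, map_one, Units.val_one, inv_one]; norm_num
  -- averaging
  have havg : ∀ φ : R → ℂ, (∀ y, φ y⁻¹ = φ y) → φ 1 = 0 →
      2 * (Nat.card R : ℂ) * ∑ g : G, φ (hh g) = (Nat.card G : ℂ) * ∑ y : R, φ y := by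
    intro φ hφ hφ1
    have hterm : ∀ g : G, ∑ y : R, (if IsConj (y : G) (g ^ m) then φ y else 0) =
        2 * φ (hh g) := by
      intro g
      by_cases he : hh g = 1
      · rw [he, hφ1, mul_zero]
        refine Finset.sum_eq_zero fun y _ => ?_
        split_ifs with hc
        · rw [hsym φ hφ y (hh g) (hc.trans (hhh g)), he, hφ1]
        · rfl
      · have hset : Finset.univ.filter (fun y : R => IsConj (y : G) (g ^ m)) =
            {hh g, (hh g)⁻¹} := by
          ext y
          simp only [Finset.mem_filter, Finset.mem_univ, true_and, Finset.mem_insert,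
            Finset.mem_singleton]
          constructor
          · intro hc
            rcases h.fus _ (hh g).2 _ y.2 (hc.trans (hhh g)).symm with h1 | h1
            · exact Or.inl (Subtype.ext h1)
            · exact Or.inr (Subtype.ext h1)
          · rintro (rfl | rfl)
            · exact (hhh g).symm
            · exact ((hhh g).trans (h.real _ (hh g).2)).symm
        rw [← Finset.sum_filter, hset, Finset.sum_pair
          (fun e => hodd _ he (congrArg Subtype.val e).symm), hφ]
        ring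
    have hW : ∀ y : R, (Nat.card {g : G // IsConj (y : G) (g ^ m)} : ℂ) * Nat.card R * φ y =
        (Nat.card G : ℂ) * φ y := by
      intro y
      rcases eq_or_ne y 1 with rfl | hy
      · rw [hφ1, mul_zero, mul_zero]
      · have := card_part_class (r := r) (y : G) (hfixR y) hC (k := Nat.card R)
          (h.compl _ y.2 fun e => hy (Subtype.ext e))
        rw [← this, Nat.cast_mul]
    calc 2 * (Nat.card R : ℂ) * ∑ g : G, φ (hh g)
        = ∑ g : G, (Nat.card R : ℂ) * ∑ y : R, (if IsConj (y : G) (g ^ m) then φ y else 0) := by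
          rw [Finset.mul_sum]
          refine Finset.sum_congr rfl fun g _ => ?_
          rw [hterm g]; ring
      _ = ∑ y : R, (Nat.card {g : G // IsConj (y : G) (g ^ m)} : ℂ) * Nat.card R * φ y := by
          simp only [Finset.mul_sum]
          rw [Finset.sum_comm]
          refine Finset.sum_congr rfl fun y _ => ?_
          simp only [mul_ite, mul_zero, ← Finset.sum_filter, Finset.sum_const, nsmul_eq_mul]
          rw [Nat.card_eq_fintype_card (α := {g : G // IsConj (y : G) (g ^ m)}),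
            Fintype.card_subtype]
          ring
      _ = (Nat.card G : ℂ) * ∑ y : R, φ y := by
          rw [Finset.mul_sum]
          exact Finset.sum_congr rfl fun y _ => hW y
  -- the two sums
  have hzero : ∀ e : R →* ℂˣ, e a ≠ 1 → ∑ y : R, (e y : ℂ) = 0 := by
    intro e he
    have := sum_hom_units ((Units.coeHom ℂ).comp e)
    rw [if_neg] at this
    · exact_mod_cast this
    · intro h0
      refine he (Units.ext ?_)
      exact DFunLike.congr_fun h0 a
  have hfa2 : f a * f a ≠ 1 := by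
    intro h2
    obtain ⟨j, hj⟩ := h.pgroup a
    have h3 : orderOf (f a) ∣ Nat.gcd 2 (r ^ j) := Nat.dvd_gcd
      (orderOf_dvd_of_pow_eq_one (by rw [pow_two, h2]))
      (orderOf_dvd_of_pow_eq_one (by rw [← map_pow, hj, map_one]))
    rw [(Nat.Coprime.pow_right j ((Nat.coprime_primes Nat.prime_two h.prime).mpr
      (Ne.symm h.odd))).gcd_eq_one, Nat.dvd_one, orderOf_eq_one_iff] at h3
    exact hfa h3
  have s1 : ∑ y : R, (f y : ℂ) = 0 := hzero f hfa
  have s1' : ∑ y : R, ((f y : ℂ))⁻¹ = 0 := by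
    simpa [Units.val_inv_eq_inv_val] using hzero f⁻¹ (by simpa using hfa)
  have s2 : ∑ y : R, (f y : ℂ) * (f y : ℂ) = 0 := by
    simpa using hzero (f * f) (by simpa using hfa2)
  have s2' : ∑ y : R, ((f y : ℂ))⁻¹ * ((f y : ℂ))⁻¹ = 0 := by
    simpa [Units.val_inv_eq_inv_val] using hzero (f⁻¹ * f⁻¹) (by
      simpa [← mul_inv_rev, mul_comm] using hfa2)
  have hsum1 : ∑ y : R, psi y = 2 * (Nat.card R : ℂ) := by
    simp only [psi, Finset.sum_sub_distrib, s1, s1', Finset.sum_const, Finset.card_univ,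
      nsmul_eq_mul, sub_zero, Nat.card_eq_fintype_card]
    ring
  have hsum2 : ∑ y : R, psi y * psi y = 6 * (Nat.card R : ℂ) := by
    have e : ∀ y : R, psi y * psi y = 6 + (f y : ℂ) * (f y : ℂ)
        + ((f y : ℂ))⁻¹ * ((f y : ℂ))⁻¹ - 4 * (f y : ℂ) - 4 * ((f y : ℂ))⁻¹ := fun y => by
      have h0 : (f y : ℂ) * ((f y : ℂ))⁻¹ = 1 := mul_inv_cancel₀ (f y).ne_zero
      simp only [psi]
      linear_combination 2 * h0
    simp only [e, Finset.sum_sub_distrib, Finset.sum_add_distrib, ← Finset.mul_sum, s1, s1', s2,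
      s2', Finset.sum_const, Finset.card_univ, nsmul_eq_mul, Nat.card_eq_fintype_card]
    ring
  have hconj : ∀ y : R, conj (psi y) = psi y := by
    intro y
    have hn : ((f y : ℂ))⁻¹ = conj (f y : ℂ) := Complex.inv_eq_conj (norm_hom_apply f y)
    simp only [psi, hn, map_sub, Complex.conj_conj, map_ofNat]
    ring
  have hG0 : (Nat.card G : ℂ) ≠ 0 := Nat.cast_ne_zero.mpr Nat.card_pos.ne'
  have hR0 : (Nat.card R : ℂ) ≠ 0 := Nat.cast_ne_zero.mpr Nat.card_pos.ne'
  have hi3 : Cfsg.classInner (fun g => psi (hh g)) (fun g => psi (hh g)) = 3 := by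
    have h2 := havg (fun y => psi y * psi y) (fun y => by simp only [hpsi_inv])
      (by simp only [hpsi1, mul_zero])
    rw [hsum2] at h2
    have h4 : ∑ g : G, psi (hh g) * psi (hh g) = 3 * (Nat.card G : ℂ) := by
      apply mul_left_cancel₀ (mul_ne_zero (two_ne_zero) hR0)
      linear_combination h2
    rw [CharCore.classInner_def]
    simp only [hconj]
    rw [h4]; field_simp
  have hi1 : Cfsg.classInner (fun g => psi (hh g)) (1 : G → ℂ) = 1 := by
    have h2 := havg psi hpsi_inv hpsi1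
    rw [hsum1] at h2
    have h4 : ∑ g : G, psi (hh g) = (Nat.card G : ℂ) := by
      apply mul_left_cancel₀ (mul_ne_zero (two_ne_zero) hR0)
      linear_combination h2
    rw [CharCore.classInner_def]
    simp only [Pi.one_apply, map_one, mul_one]
    rw [h4]; field_simp
  exact ⟨hgen, fun g hg => by simp only [hh1 g hg, hpsi1],
    shape_of_norm_three hgen hi3 hi1⟩

end Cfsg.Agent.TwoPrime63
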