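import Cfsg.Agent.TwoPrime63.Sec
import Cfsg.Agent.TwoPrime63.Theta
import Cfsg.Agent.TwoPrime63.Rel
import Cfsg.Agent.TwoPrime63.Arith

/-!
# Class sizes with at most two prime divisors: both odd automizers of order two
-/

set_option autoImplicit false
set_option linter.unusedSectionVars false
set_option linter.style.haveILetI false

namespace Cfsg.Agent.TwoPrime63

open Agent.Ito7 (cent mem_cent self_mem_cent cent_le_pow)
open Subgroup (centralizer normalizer)

universe u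

variable {G : Type u} [Group G] [Finite G]

theorem exists_prime_power_of_dvd {r : ℕ} (hr : r.Prime) {g : G} (h : r ∣ orderOf g) :
    ∃ k : ℕ, orderOf (g ^ k) = r :=
  ⟨orderOf g / r, orderOf_pow_orderOf_div (orderOf_pos g).ne' h⟩

theorem index_cent_conj (c y : G) : (cent (c * y * c⁻¹)).index = (cent y).index := by
  have hmap : (cent y).map (MulAut.conj c).toMonoidHom = cent (c * y * c⁻¹) := by
    refine le_antisymm ?_ fun z hz => ⟨c⁻¹ * z * c, mem_cent.2 ?_, by simp; group⟩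
    · rintro _ ⟨z, hz, rfl⟩
      exact mem_cent.2 ((mem_cent.1 hz).map (MulAut.conj c).toMonoidHom)
    · simpa [mul_assoc] using (mem_cent.1 hz).map (MulAut.conj c⁻¹).toMonoidHom
  rw [← hmap]
  exact Subgroup.index_map_of_bijective (MulAut.conj c).bijective _

theorem orth_cases [Fintype G] {θ φ : G → ℂ} {A B C E : Cfsg.IrrCharacter G}
    (hA1 : (A : G → ℂ) ≠ 1) (hB1 : (B : G → ℂ) ≠ 1) (hC1 : (C : G → ℂ) ≠ 1)
    (hE1 : (E : G → ℂ) ≠ 1) (hθ : ∀ g, θ g = 1 + (A : G → ℂ) g - (B : G → ℂ) g)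
    (hφ : ∀ g, φ g = 1 + (C : G → ℂ) g - (E : G → ℂ) g) (hdis : ∀ g, θ g = 0 ∨ φ g = 0) :
    A = E ∨ B = C := by
  classical
  let triv : Cfsg.IrrCharacter G := ⟨1, CharCore.isIrrCharacter_one⟩
  have hne : ∀ χ : Cfsg.IrrCharacter G, (χ : G → ℂ) ≠ 1 →
      Cfsg.classInner (χ : G → ℂ) triv = 0 ∧ Cfsg.classInner (triv : G → ℂ) χ = 0 := fun χ h =>
    ⟨CharCore.classInner_irr_of_ne fun e => h (by rw [e]),
      CharCore.classInner_irr_of_ne fun e => h (by rw [← e])⟩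
  have e1 : θ = (triv : G → ℂ) + (A : G → ℂ) - (B : G → ℂ) := funext fun g => by
    simp [hθ, show (triv : G → ℂ) g = 1 from rfl]
  have e2 : φ = (triv : G → ℂ) + (C : G → ℂ) - (E : G → ℂ) := funext fun g => by
    simp [hφ, show (triv : G → ℂ) g = 1 from rfl]
  have h0 : Cfsg.classInner θ φ = 0 := by
    rw [CharCore.classInner_def, Finset.sum_eq_zero, mul_zero]
    intro g _
    rcases hdis g with h | h <;> simp [h]
  rw [e1, e2] at h0
  simp only [CharCore.classInner_sub_left, CharCore.classInner_add_left,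
    CharCore.classInner_sub_right, CharCore.classInner_add_right, CharCore.classInner_irr_self,
    (hne A hA1).1, (hne B hB1).1, (hne C hC1).2, (hne E hE1).2] at h0
  by_contra hno
  push Not at hno
  simp only [CharCore.classInner_irr, hno.1, hno.2, if_false] at h0
  split_ifs at h0 <;> norm_num at h0

namespace Tri

variable {p q : ℕ} (D : Tri G p q)
include D

theorem exists_full_two [Fact (Nat.Prime 2)] (T : Sylow 2 G) :
    ∃ a : G, orderOf a = 2 ∧ Full 2 a := by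
  haveI : Nontrivial (T : Subgroup G) :=
    (Subgroup.nontrivial_iff_ne_bot _).2 (T.ne_bot_of_dvd_card D.dvd_two)
  haveI := T.isPGroup'.center_nontrivial
  obtain ⟨c, hc⟩ := exists_ne (1 : Subgroup.center (T : Subgroup G))
  have hc1 : ((c : (T : Subgroup G)) : G) ≠ 1 := fun h => hc (Subtype.ext (Subtype.ext h))
  obtain ⟨k, hk⟩ := (IsPGroup.iff_orderOf.1 T.isPGroup') (c : (T : Subgroup G))
  rw [← Subgroup.orderOf_coe] at hk
  obtain ⟨m, hm⟩ := Ito7.exists_involution_power (p := 2) hc1 ⟨k, hk⟩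
  refine ⟨_, hm, fun hd => T.not_dvd_index (hd.trans (Subgroup.index_dvd_of_le fun t ht => ?_))⟩
  exact mem_cent.2 (Commute.pow_right
    (congrArg Subtype.val (Subgroup.mem_center_iff.1 c.2 ⟨t, ht⟩)) m)

theorem not_dvd_cent_sing {g : G} (hg : p ∣ orderOf g) : ¬ q ∣ Nat.card (cent g) := by
  obtain ⟨k, hk⟩ := exists_prime_power_of_dvd D.pp hg
  exact fun h => D.not_dvd_cent_p (ne_one_of_order D.pp hk) (i := 1) (by rw [hk, pow_one])
    (h.trans (Subgroup.card_dvd_of_le (cent_le_pow g k)))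

theorem disjoint_sing {θ φ : G → ℂ} (hθ : NormThree p θ) (hφ : NormThree q φ) (g : G) :
    θ g = 0 ∨ φ g = 0 := by
  by_cases h1 : p ∣ orderOf g
  · refine Or.inr (hφ.vanish g fun h2 => D.not_dvd_cent_sing h1 ?_)
    obtain ⟨k, hk⟩ := exists_prime_power_of_dvd D.qp h2
    rw [← hk, ← Subgroup.orderOf_mk (g ^ k) (mem_cent.2 (Commute.pow_self g k))]
    exact orderOf_dvd_natCard _
  · exact Or.inl (hθ.vanish g h1)

/-- Some involution centralizes a full Sylow `p`-subgroup. -/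
theorem exists_full_p [Fact p.Prime] [Fact (Nat.Prime 2)] (P : Sylow p G) (he : autOrder P = 2)
    {θ : G → ℂ} (hθ : NormThree p θ) (T : Sylow 2 G) {z : G} (hz : orderOf z = 2)
    (hzF : ¬ Full 2 z) : ∃ w : G, orderOf w = 2 ∧ Full p w := by
  by_contra hno
  push Not at hno
  obtain ⟨a, ha, haF⟩ := D.exists_full_two T
  -- centralisers of nontrivial `p`-elements are Sylow subgroups
  have hcent : ∀ y ∈ (P : Subgroup G), y ≠ 1 → cent y = (P : Subgroup G) := by
    intro y hy hy1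
    obtain ⟨i, hi⟩ := (IsPGroup.iff_orderOf.1 P.isPGroup') ⟨y, hy⟩
    rw [Subgroup.orderOf_mk] at hi
    have hpg : IsPGroup p (cent y) := IsPGroup.of_card
      (n := (Nat.card (cent y)).primeFactorsList.length)
      (Nat.eq_prime_pow_of_unique_prime_dvd Nat.card_pos.ne' fun {d} hd hdd => by
        rcases D.prime_cases hd (hdd.trans (Subgroup.card_subgroup_dvd_card _)) with rfl | rfl | rfl
        · exfalso
          obtain ⟨w, hw, hwo⟩ := exists_orderOf_prime hd hdd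
          have hsig := (D.setup.sig_commute hy1 (ne_one_of_order hd hwo) (mem_cent.1 hw).symm
            (by rw [hi, hwo]
                exact Nat.Coprime.pow_left i ((Nat.coprime_primes D.pp Nat.prime_two).2 D.p2))).1
          exact hno w hwo ((full_iff_of_sig hsig D.pp).1 (D.full_p hi))
        · rfl
        · exact absurd hdd (D.not_dvd_cent_p hy1 hi))
    exact P.is_maximal' hpg fun x hx => mem_cent.2 (D.comm_p P x hx y hy)
  -- inverting involutions form one class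
  have hinv : ∀ u : G, orderOf u = 2 → ∃ v : G, IsConj u v ∧
      v ∈ normalizer ((P : Subgroup G) : Set G) ∧ v ∉ centralizer ((P : Subgroup G) : Set G) := by
    intro u hu
    obtain ⟨v, g, huv, hg, hvg⟩ := D.setup.exists_inverted D.pp hθ D.p2 hu
    obtain ⟨k, hk⟩ := exists_prime_power_of_dvd D.pp hg
    obtain ⟨c, hc⟩ := ThreeSize7.exists_conj_mem D.pp P.not_dvd_index (u := g ^ k) (i := 1)
      (by rw [hk, pow_one])
    set y := c * g ^ k * c⁻¹ with hy
    have hy1 : y ≠ 1 := fun h => ne_one_of_order D.pp hk (conj_eq_one_iff.1 h)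
    set v' := c * v * c⁻¹ with hv'
    have hinv : v' * y * v'⁻¹ = y⁻¹ := by
      have h1 : v * g ^ k * v⁻¹ = (g ^ k)⁻¹ := by rw [← conj_pow, hvg, inv_pow]
      rw [hv', hy]
      calc c * v * c⁻¹ * (c * g ^ k * c⁻¹) * (c * v * c⁻¹)⁻¹
          = c * (v * g ^ k * v⁻¹) * c⁻¹ := by group
        _ = (c * g ^ k * c⁻¹)⁻¹ := by rw [h1]; group
    refine ⟨v', huv.trans (isConj_iff.2 ⟨c, rfl⟩), Subgroup.mem_normalizer_iff.2 fun x => ?_,
      fun hcm => hy1 ?_⟩
    · have key : ∀ x, x ∈ (P : Subgroup G) → v' * x * v'⁻¹ ∈ (P : Subgroup G) := by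
        intro x hx
        rw [← hcent y hc hy1] at hx ⊢
        refine mem_cent.2 (Commute.inv_right_iff.1 ?_)
        rw [← hinv]
        exact (mem_cent.1 hx).map (MulAut.conj v').toMonoidHom
      have hv2 : v' * v' = 1 := by
        obtain ⟨d, hd⟩ := isConj_iff.1 (huv.trans (isConj_iff.2 ⟨c, hv'.symm⟩))
        rw [← hd, show d * u * d⁻¹ * (d * u * d⁻¹) = d * (u * u) * d⁻¹ by group,
          show u * u = 1 by rw [← pow_two, ← hu, pow_orderOf_eq_one], mul_one, mul_inv_cancel]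
      refine ⟨key x, fun hx => ?_⟩
      have h2 := key _ hx
      rwa [show v' * (v' * x * v'⁻¹) * v'⁻¹ = (v' * v') * x * (v' * v')⁻¹ by group, hv2, one_mul,
        inv_one, mul_one] at h2
    · rw [← Subgroup.mem_centralizer_iff.1 hcm y hc, mul_inv_cancel_right] at hinv
      obtain ⟨j, hj⟩ := (IsPGroup.iff_orderOf.1 P.isPGroup') ⟨y, hc⟩
      rw [Subgroup.orderOf_mk] at hj
      have h2 : orderOf y ∣ 2 := orderOf_dvd_of_pow_eq_one (by
        rw [pow_two]; nth_rw 1 [hinv]; exact inv_mul_cancel y)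
      rcases Nat.eq_zero_or_pos j with rfl | hj0
      · exact orderOf_eq_one_iff.1 (by rw [hj, pow_zero])
      · rw [hj] at h2
        exact absurd ((Nat.prime_dvd_prime_iff_eq D.pp Nat.prime_two).1
          ((dvd_pow_self p hj0.ne').trans h2)) D.p2
  obtain ⟨v, hav, hvN, hvC⟩ := hinv a ha
  obtain ⟨w, hzw, hwN, hwC⟩ := hinv z hz
  -- `w` is conjugate to `v` by an element of `P`
  have hidx : ((centralizer ((P : Subgroup G) : Set G)).subgroupOf
      (normalizer ((P : Subgroup G) : Set G))).index = 2 := he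
  have hc0 : v⁻¹ * w ∈ centralizer ((P : Subgroup G) : Set G) := by
    have h := (Subgroup.mul_mem_iff_of_index_two hidx
      (a := (⟨v, hvN⟩ : normalizer ((P : Subgroup G) : Set G))⁻¹) (b := ⟨w, hwN⟩)).2 (by
      rw [inv_mem_iff]; simp only [Subgroup.mem_subgroupOf]; exact iff_of_false hvC hwC)
    exact h
  obtain ⟨y₀, hy₀, hy₀o⟩ := exists_orderOf_prime D.pp (H := (P : Subgroup G)) (by
    obtain ⟨i, hi⟩ := P.isPGroup'.exists_card_eq
    rw [hi]
    refine dvd_pow_self p fun h => P.ne_bot_of_dvd_card D.dvd_p ?_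
    rw [Subgroup.eq_bot_iff_card, hi, h, pow_zero])
  have hmemP : v⁻¹ * w ∈ (P : Subgroup G) := by
    rw [← hcent y₀ hy₀ (ne_one_of_order D.pp hy₀o)]
    exact mem_cent.2 (Subgroup.mem_centralizer_iff.1 hc0 y₀ hy₀).symm
  obtain ⟨j, hj⟩ := (IsPGroup.iff_orderOf.1 P.isPGroup') ⟨_, hmemP⟩
  obtain ⟨m, hm⟩ : Odd (orderOf (⟨_, hmemP⟩ : (P : Subgroup G))) := hj ▸ (D.pp.odd_of_ne_two D.p2).pow
  rw [Subgroup.orderOf_mk] at hm
  set s := (v⁻¹ * w) ^ (m + 1) with hs
  have hss : s * s = v⁻¹ * w := by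
    rw [hs, ← pow_add, show m + 1 + (m + 1) = orderOf (v⁻¹ * w) + 1 by omega, pow_succ,
      pow_orderOf_eq_one, one_mul]
  have hvs : v * s * v⁻¹ = s⁻¹ :=
    D.setup.inverts P (D.comm_p P) he hvN hvC (pow_mem hmemP _)
  have hw : w = s⁻¹ * v * s := by
    rw [← hvs]
    calc w = v * (v⁻¹ * w) := by group
      _ = v * (s * s) := by rw [hss]
      _ = v * s * v⁻¹ * v * s := by group
  obtain ⟨d, hd⟩ := isConj_iff.1
    (hav.trans ((isConj_iff.2 ⟨s⁻¹, by rw [inv_inv, ← hw]⟩ : IsConj v w).trans hzw.symm))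
  apply hzF
  unfold Full
  rw [← hd, index_cent_conj]
  exact haF

theorem false_of_shared [Fintype G] {θ φ : G → ℂ} (hθ : NormThree p θ) (hφ : NormThree q φ)
    {A B E : Cfsg.IrrCharacter G} {a : ℕ} (hA1 : (A : G → ℂ) ≠ 1) (hB1 : (B : G → ℂ) ≠ 1)
    (hA : (A : G → ℂ) 1 = a) (hB : (B : G → ℂ) 1 = (a + 1 : ℕ))
    (hE : (E : G → ℂ) 1 = (a + 1 + 1 : ℕ)) (hθv : ∀ g, θ g = 1 + (A : G → ℂ) g - (B : G → ℂ) g)
    (hφv : ∀ g, φ g = 1 + (B : G → ℂ) g - (E : G → ℂ) g) {zp zq : G} (hzp : orderOf zp = 2)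
    (hzpF : Full p zp) (hzq : orderOf zq = 2) (hzqF : Full q zq) : False := by
  have hS := D.setup
  have hp2 : ¬ p ∣ 2 := fun h => D.p2 ((Nat.prime_dvd_prime_iff_eq D.pp Nat.prime_two).1 h)
  have ha : 2 ≤ a := hS.two_le_degree hA1 hA
  obtain ⟨M, hM0, hMa, hAq, hBq⟩ := hS.value_pair hθ hp2 hA1 hA hθv hzq
  obtain ⟨M', hM'0, hM'a, hAp, hBp⟩ := hS.value_pair hθ hp2 hA1 hA hθv hzp
  have hEp : (E : G → ℂ) zp = ((a + 1 : ℕ) : ℂ) + 1 - 2 * M' := by
    have := (hφv zp).symm.trans (hφ.vanish zp (by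
      rw [hzp]; exact fun h => D.q2 ((Nat.prime_dvd_prime_iff_eq D.qp Nat.prime_two).1 h)))
    rw [hBp] at this
    push_cast
    linear_combination -this
  obtain ⟨-, hq⟩ := hS.dvd_multiplicity D.qp D.q2 D.dvd_q hθ (fun g hg => D.not_dvd_cent_sing hg)
    hzq hzqF (by omega) hA hB hθv hAq hBq
  obtain ⟨hp, hp'⟩ := hS.dvd_multiplicity D.pp D.p2 D.dvd_p hφ
    (fun g hg => D.symm.not_dvd_cent_sing hg) hzp hzpF (Nat.succ_pos a) hB hE hφv
    (by rw [hBp]; push_cast; ring) hEp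
  have hdiv : ∀ (χ : Cfsg.IrrCharacter G) (n : ℕ), (χ : G → ℂ) 1 = n →
      ∀ d : ℕ, d.Prime → d ∣ n → d = 2 ∨ d = p ∨ d = q := by
    intro χ n hn d hd hdn
    obtain ⟨e, -, he, he'⟩ := CharClifford.exists_degree_dvd_card χ.2
    rw [hn, Nat.cast_inj] at he'
    exact D.prime_cases hd (hdn.trans (he' ▸ he))
  exact degree_arith D.pp D.qp D.p2 D.q2 D.pq ha hM0 hMa hM'0 hM'a hq hp hp' (hdiv A a hA)
    (hdiv B (a + 1) hB) (hdiv E (a + 2) hE)

theorem false_of_two_two [Fact p.Prime] [Fact q.Prime] [Fact (Nat.Prime 2)] (T : Sylow 2 G)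
    (P : Sylow p G) (Q : Sylow q G) (hP : autOrder P = 2) (hQ : autOrder Q = 2) {z : G}
    (hz : orderOf z = 2) (hzF : ¬ Full 2 z) : False := by
  haveI := Fintype.ofFinite G
  obtain ⟨θ, hθ⟩ := exists_normThree (D.setup.secHyp P D.p2 D.dvd_p (D.comm_p P) hP)
  obtain ⟨φ, hφ⟩ := exists_normThree (D.setup.secHyp Q D.q2 D.dvd_q (D.symm.comm_p Q) hQ)
  obtain ⟨zp, hzp, hzpF⟩ := D.exists_full_p P hP hθ T hz hzF
  obtain ⟨zq, hzq, hzqF⟩ := D.symm.exists_full_p Q hQ hφ T hz hzF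
  obtain ⟨A, B, a, -, hA1, hB1, -, hA, hB, hθv⟩ := hθ.diff D.pp
  obtain ⟨C, E, c, -, hC1, hE1, -, hC, hE, hφv⟩ := hφ.diff D.qp
  rcases orth_cases hA1 hB1 hC1 hE1 hθv hφv (D.disjoint_sing hθ hφ) with h | h
  · subst h
    rw [hA, Nat.cast_inj] at hE
    subst hE
    exact D.symm.false_of_shared hφ hθ hC1 hA1 hC hA hB hφv hθv hzq hzqF hzp hzpF
  · subst h
    rw [hB, Nat.cast_inj] at hC
    subst hC
    exact D.false_of_shared hθ hφ hA1 hB1 hA hB hE hθv hφv hzp hzpF hzq hzqF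

end Tri

end Cfsg.Agent.TwoPrime63
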