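import Cfsg.Agent.TwoPrime63.Four
import Cfsg.Agent.TwoPrime63.Pure
import Cfsg.Agent.TwoPrime63.TwoThree
import Cfsg.Agent.TwoPrime63.TwoTwo

/-!
# Class sizes with at most two prime divisors: the simple groups
-/

set_option autoImplicit false
set_option linter.unusedSectionVars false
set_option linter.style.haveILetI false

namespace Cfsg.Agent.TwoPrime63

universe u

variable {G : Type u} [Group G] [Finite G]

/-- The simple groups whose class sizes have at most two prime divisors. -/
theorem simple_case (S : Setup G) :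
    Nonempty (G ≃* alternatingGroup (Fin 5)) ∨
      Nonempty (G ≃* Matrix.ProjectiveSpecialLinearGroup (Fin 2) (GaloisField 2 3)) := by
  have h3 := S.primeFactors_card
  obtain ⟨p, q, D⟩ := S.exists_tri h3
  refine S.pure h3 fun t ht => D.isPGroup_cent_of_full_two ht ?_
  by_contra hF
  haveI := Fact.mk Nat.prime_two
  haveI := Fact.mk D.pp
  haveI := Fact.mk D.qp
  obtain ⟨T, hT⟩ := (IsPGroup.of_card (n := 1) (G := Subgroup.zpowers t)
    (by rw [Nat.card_zpowers, ht, pow_one])).exists_le_sylow
  have htT : t ∈ (T : Subgroup G) := hT (Subgroup.mem_zpowers t)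
  obtain ⟨P⟩ := (inferInstance : Nonempty (Sylow p G))
  obtain ⟨Q⟩ := (inferInstance : Nonempty (Sylow q G))
  rcases D.autOrder_le_three ht hF T P Q with ⟨hP, hQ⟩ | ⟨hT6, hPQ⟩
  · exact D.false_of_two_two T P Q hP hQ ht hF
  obtain ⟨r, hr, hrF⟩ := D.exists_full (Tri.ne_one_of_order Nat.prime_two ht)
  rcases hr with rfl | rfl | rfl
  · exact hF hrF
  · exact D.false_of_autOrder_lt_six T P ht htT hrF (by omega) hT6
  · exact D.symm.false_of_autOrder_lt_six T Q ht htT hrF (by omega) hT6

end Cfsg.Agent.TwoPrime63
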