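import Cfsg.Agent.TwoPrime63.Models
import Cfsg.Agent.Lib.Transfer.Abelian

/-!
# Class sizes with at most two prime divisors: reduction to the simple case

If every simple group with the hypothesis is `A₅` or `L₂(8)`, a nonsolvable group with the
hypothesis has a normal subgroup of this type, and is the product of its centre with it.
-/

set_option autoImplicit false
set_option linter.unusedSectionVars false
set_option linter.style.haveILetI false

namespace Cfsg.Agent.TwoPrime63

open Agent.Ito7 (cent mem_cent)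
open scoped commutatorElement

universe u

/-- Isomorphic to `A₅` or `L₂(8)`. -/
def Model (S : Type u) [Group S] : Prop :=
  Nonempty (S ≃* alternatingGroup (Fin 5)) ∨
    Nonempty (S ≃* Matrix.ProjectiveSpecialLinearGroup (Fin 2) (GaloisField 2 3))

theorem Model.of_equiv {S T : Type u} [Group S] [Group T] (h : Model S) (e : T ≃* S) : Model T :=
  h.imp (fun ⟨f⟩ => ⟨e.trans f⟩) fun ⟨f⟩ => ⟨e.trans f⟩

theorem Model.exists_nice {S : Type u} [Group S] (h : Model S) :
    ∃ (M : Type) (_ : Group M) (_ : Finite M), Nice M ∧ Nonempty (S ≃* M) := by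
  rcases h with h | h
  · exact ⟨_, inferInstance, inferInstance, nice_a5, h⟩
  · exact ⟨_, inferInstance, inferInstance, nice_l8, h⟩

theorem ClassTwo.index_subgroup {G : Type u} [Group G] [Finite G] (N : Subgroup G) [N.Normal]
    (x : N) : (cent x).index ∣ (cent (x : G)).index := by
  have he : cent x = (cent (x : G)).subgroupOf N := by
    ext g
    rw [Subgroup.mem_subgroupOf, mem_cent, mem_cent]
    exact ⟨fun h => h.map N.subtype, fun h => Subtype.ext h⟩
  rw [he]
  exact relIndex_dvd _ _

theorem ClassTwo.of_normal {G : Type u} [Group G] [Finite G] (h : ClassTwo G) (N : Subgroup G)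
    [N.Normal] : ClassTwo N := fun x =>
  le_trans (Finset.card_le_card (Nat.primeFactors_mono (ClassTwo.index_subgroup N x)
    Subgroup.index_ne_zero_of_finite)) (h x)

theorem setup_of_nice {S : Type u} [Group S] [Finite S] {M : Type} [Group M] [Finite M]
    (hM : Nice M) (e : S ≃* M) (h : ClassTwo S) : Setup S := by
  haveI := hM.simple
  refine ⟨e.isSimpleGroup, ?_, h⟩
  obtain ⟨a, b, hab⟩ := hM.nonab
  exact ⟨e.symm a, e.symm b, fun hh => hab (e.symm.injective (by rw [map_mul, map_mul]; exact hh))⟩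

/-- Every prime is missing from some class size of a simple group. -/
theorem exists_missing {S : Type u} [Group S] [Finite S] (hS : Setup S) {l : ℕ} (hl : l.Prime) :
    ∃ s : S, s ≠ 1 ∧ ¬ l ∣ (cent s).index := by
  haveI := Fact.mk hl
  haveI := hS.simple
  by_cases hd : l ∣ Nat.card S
  · obtain ⟨P⟩ : Nonempty (Sylow l S) := inferInstance
    have hne : (P : Subgroup S) ≠ ⊥ := P.ne_bot_of_dvd_card hd
    haveI : Nontrivial (P : Subgroup S) := (Subgroup.nontrivial_iff_ne_bot _).2 hne
    haveI := P.2.center_nontrivial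
    obtain ⟨z, hz⟩ := exists_ne (1 : Subgroup.center (P : Subgroup S))
    refine ⟨((z : (P : Subgroup S)) : S), fun h => hz (Subtype.ext (Subtype.ext h)), fun h => ?_⟩
    refine P.not_dvd_index (h.trans (Subgroup.index_dvd_of_le fun t ht => mem_cent.2 ?_))
    exact congrArg Subtype.val (Subgroup.mem_center_iff.1 z.2 ⟨t, ht⟩)
  · obtain ⟨s, hs⟩ := exists_ne (1 : S)
    exact ⟨s, hs, fun h => hd (h.trans (Subgroup.index_dvd_card _))⟩

/-- Two primes of a class size in a simple section, and a third one. -/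
theorem false_of_setup {G : Type u} [Group G] [Finite G] {S : Type u} [Group S] [Finite S]
    (hc : ClassTwo G) (hS : Setup S) {s : S} (hs : s ≠ 1) {x : G} {l : ℕ} (hl : l.Prime)
    (hls : ¬ l ∣ (cent s).index) (hd : (cent s).index ∣ (cent x).index)
    (hlx : l ∣ (cent x).index) : False := by
  obtain ⟨a, b, hab, he⟩ := Finset.card_eq_two.1 (hS.sig_card hs)
  have ha : a ∈ sig s := by rw [he]; simp
  have hb : b ∈ sig s := by rw [he]; simp
  have hap := Nat.prime_of_mem_primeFactors ha
  have hbp := Nat.prime_of_mem_primeFactors hb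
  exact false_of_three hc hap hbp hl hab (fun h => hls (h ▸ (mem_sig hap).1 ha))
    (fun h => hls (h ▸ (mem_sig hbp).1 hb)) (((mem_sig hap).1 ha).trans hd)
    (((mem_sig hbp).1 hb).trans hd) hlx

/-- A normal subgroup `A₅` or `L₂(8)` is a direct factor with central complement. -/
theorem split {G : Type u} [Group G] [Finite G] (hc : ClassTwo G) (S : Subgroup G) [S.Normal]
    (hS : Model S) : Subgroup.center G ⊓ S = ⊥ ∧ Subgroup.center G ⊔ S = ⊤ := by
  obtain ⟨M, _, _, hM, ⟨e⟩⟩ := hS.exists_nice
  haveI := hM.simple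
  haveI : Finite (MulAut M) :=
    Finite.of_injective (fun f : MulAut M => (f : M → M)) DFunLike.coe_injective
  have hSS : Setup S := setup_of_nice hM e (hc.of_normal S)
  let f : G →* MulAut M := (MulAut.congr e).toMonoidHom.comp MulAut.conjNormal
  have hfs : ∀ s : S, f s = MulAut.conj (e s) := fun s => MulEquiv.ext fun y => by
    show e (MulAut.conjNormal (s : G) (e.symm y)) = _
    have h1 : MulAut.conjNormal (s : G) (e.symm y) = s * e.symm y * s⁻¹ :=
      Subtype.ext (by simp [MulAut.conjNormal_apply])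
    rw [h1, map_mul, map_mul, map_inv, MulEquiv.apply_symm_apply, MulAut.conj_apply]
  have hbot : f.ker ⊓ S = ⊥ := by
    rw [eq_bot_iff]
    rintro x ⟨hx, hxS⟩
    have h1 : MulAut.conj (e ⟨x, hxS⟩) = 1 := (hfs ⟨x, hxS⟩).symm.trans hx
    have h2 : (⟨x, hxS⟩ : S) = 1 :=
      e.injective ((conj_injective hM.nonab (h1.trans (map_one MulAut.conj).symm)).trans (map_one e).symm)
    exact Subgroup.mem_bot.2 (congrArg Subtype.val h2)
  have htop : f.ker ⊔ S = ⊤ := by
    set I := (MulAut.conj : M →* MulAut M).range with hI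
    have hle : I ≤ f.range := by
      rintro _ ⟨m, rfl⟩
      exact ⟨((e.symm m : S) : G), by rw [hfs, e.apply_symm_apply]⟩
    have hp := hM.inner
    rw [← Subgroup.relIndex_mul_index hle, Nat.prime_mul_iff] at hp
    rcases hp with ⟨-, h1⟩ | ⟨-, h1⟩
    · exact absurd (hc.of_surjective (f := f)
        (MonoidHom.range_eq_top.1 (Subgroup.index_eq_one.1 h1))) hM.bad
    · rw [Subgroup.relIndex_eq_one] at h1
      rw [eq_top_iff]
      intro g _
      obtain ⟨m, hm⟩ := h1 ⟨g, rfl⟩
      have hk : g * (((e.symm m : S) : G))⁻¹ ∈ f.ker := by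
        rw [MonoidHom.mem_ker, map_mul, map_inv, hfs, e.apply_symm_apply, hm, mul_inv_cancel]
      have := Subgroup.mul_mem_sup hk (e.symm m : S).2
      rwa [inv_mul_cancel_right] at this
  have hcz : f.ker ≤ Subgroup.center G := by
    intro x hx
    refine Subgroup.mem_center_iff.2 fun g => ?_
    by_contra hg
    obtain ⟨l, hl, hlx⟩ := Nat.exists_prime_and_dvd (n := (cent x).index) fun h1 =>
      hg (mem_cent.1 (show g ∈ cent x by rw [Subgroup.index_eq_one.1 h1]; trivial))
    obtain ⟨s, hs, hls⟩ := exists_missing hSS hl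
    have hboth : ∀ h ∈ cent (x * (s : G)), h ∈ cent x ∧ h ∈ cent (s : G) := by
      intro h hh
      have e0 : h * (x * s) * h⁻¹ = x * s := mul_inv_eq_iff_eq_mul.2 (mem_cent.1 hh).eq
      have e1 : x⁻¹ * (h * x * h⁻¹) = (s : G) * (h * s * h⁻¹)⁻¹ := by
        rw [eq_mul_inv_iff_mul_eq]
        calc x⁻¹ * (h * x * h⁻¹) * (h * s * h⁻¹) = x⁻¹ * (h * (x * s) * h⁻¹) := by group
          _ = s := by rw [e0]; group
      have hm : x⁻¹ * (h * x * h⁻¹) ∈ f.ker ⊓ S :=
        Subgroup.mem_inf.2 ⟨mul_mem (inv_mem hx) ((MonoidHom.normal_ker f).conj_mem x hx h),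
          e1 ▸ mul_mem s.2 (inv_mem ((inferInstance : S.Normal).conj_mem _ s.2 h))⟩
      rw [hbot, Subgroup.mem_bot] at hm
      have hx' : h * x * h⁻¹ = x := inv_mul_eq_one.1 hm |>.symm
      rw [hm, eq_comm, mul_inv_eq_one] at e1
      exact ⟨mem_cent.2 (mul_inv_eq_iff_eq_mul.1 hx'),
        mem_cent.2 (mul_inv_eq_iff_eq_mul.1 e1.symm)⟩
    exact false_of_setup hc hSS hs hl hls
      ((ClassTwo.index_subgroup S s).trans
        (Subgroup.index_dvd_of_le fun h hh => (hboth h hh).2))
      (hlx.trans (Subgroup.index_dvd_of_le fun h hh => (hboth h hh).1))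
  refine ⟨?_, ?_⟩
  · rw [eq_bot_iff]
    rintro z ⟨hz, hzS⟩
    haveI := hSS.simple
    have : (⟨z, hzS⟩ : S) ∈ Subgroup.center S :=
      Subgroup.mem_center_iff.2 fun t => Subtype.ext (Subgroup.mem_center_iff.1 hz t)
    rw [hSS.center_eq_bot, Subgroup.mem_bot] at this
    exact Subgroup.mem_bot.2 (congrArg Subtype.val this)
  · exact eq_top_iff.2 (htop.ge.trans (sup_le_sup_right hcz S))

/-- No proper extension of a model by an abelian group, all proper normal subgroups solvable. -/
theorem no_ext {G : Type u} [Group G] [Finite G] (hc : ClassTwo G) (hns : ¬ Group.IsSolvable G)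
    (hprop : ∀ N : Subgroup G, N.Normal → N ≠ ⊤ → Group.IsSolvable N) (R : Subgroup G) [R.Normal]
    (hR : R ≠ ⊥) (hab : ∀ a ∈ R, ∀ b ∈ R, a * b = b * a) (hS : Model (G ⧸ R)) : False := by
  obtain ⟨M, _, _, hM, ⟨e⟩⟩ := hS.exists_nice
  set π := QuotientGroup.mk' R with hπ
  have hsurj : Function.Surjective π := QuotientGroup.mk'_surjective R
  have hSS : Setup (G ⧸ R) := setup_of_nice hM e (hc.of_surjective hsurj)
  haveI := hSS.simple
  have hperf : commutator G = ⊤ := by
    by_contra hne
    haveI := hprop _ inferInstance hne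
    haveI : Group.IsSolvable (G ⧸ commutator G) :=
      Group.isSolvable_of_comm fun a b => by
        induction a using QuotientGroup.induction_on with
        | _ a => induction b using QuotientGroup.induction_on with
          | _ b =>
            rw [← QuotientGroup.mk_mul, ← QuotientGroup.mk_mul, QuotientGroup.eq,
              show (a * b)⁻¹ * (b * a) = ⁅b⁻¹, a⁻¹⁆ by simp [commutatorElement_def, mul_assoc]]
            exact Subgroup.commutator_mem_commutator (Subgroup.mem_top _) (Subgroup.mem_top _)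
    exact hns ((Group.isSolvable_iff_subgroup_quotient (commutator G)).2 ⟨inferInstance, inferInstance⟩)
  by_cases hcen : R ≤ Subgroup.center G
  · have hRcard : Nat.card R ≠ 1 := fun h => hR (Subgroup.eq_bot_of_card_eq R h)
    obtain ⟨l, hl, hlR⟩ := Nat.exists_prime_and_dvd hRcard
    haveI := Fact.mk hl
    obtain ⟨z, hz⟩ := exists_prime_orderOf_dvd_card' l hlR
    have hzG : orderOf (z : G) = l := by rw [Subgroup.orderOf_coe, hz]
    obtain ⟨T, hT⟩ := (IsPGroup.of_card (n := 1) (by rw [Nat.card_zpowers, hzG, pow_one]) :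
      IsPGroup l (Subgroup.zpowers (z : G))).exists_le_sylow
    have hzT : (z : G) ∈ (T : Subgroup G) := hT (Subgroup.mem_zpowers _)
    by_cases hTab : IsMulCommutative (T : Subgroup G)
    · have h1 := Transfer.inf_commutator_inf_center_eq_bot hTab T.card_coprime_index
      have h2 : (z : G) ∈ (⊥ : Subgroup G) := h1 ▸
        ⟨⟨hzT, hperf ▸ Subgroup.mem_top _⟩, hcen z.2⟩
      rw [Subgroup.mem_bot] at h2
      rw [h2, orderOf_one] at hzG
      exact hl.ne_one hzG.symm
    · obtain ⟨x, hx, y, hy, hxy⟩ : ∃ x ∈ (T : Subgroup G), ∃ y ∈ (T : Subgroup G), x * y ≠ y * x := by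
        by_contra h
        push Not at h
        exact hTab ⟨⟨fun a b => Subtype.ext (h a a.2 b b.2)⟩⟩
      have hxR : x ∉ R := fun h => hxy (Subgroup.mem_center_iff.1 (hcen h) y).symm
      have hx1 : π x ≠ 1 := fun h => hxR ((QuotientGroup.eq_one_iff x).1 h)
      have hcomm : ∀ t ∈ (T : Subgroup G), Commute (π t) (π x) := fun t ht => by
        have hP : IsPGroup l (((T : Subgroup G).map π).map e.toMonoidHom) :=
          (T.2.map π).map e.toMonoidHom
        have := hM.sylow l _ hP (e (π t)) ⟨π t, ⟨t, ht, rfl⟩, rfl⟩ (e (π x))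
          ⟨π x, ⟨x, hx, rfl⟩, rfl⟩
        exact e.injective (by rw [map_mul, map_mul]; exact this.eq)
      have hls : ¬ l ∣ (cent (π x)).index := fun h => T.not_dvd_index
        (h.trans ((Subgroup.index_dvd_of_le (by
          rintro _ ⟨t, ht, rfl⟩; exact mem_cent.2 (hcomm t ht))).trans
          (Subgroup.index_map_dvd _ hsurj)))
      set D := (cent (π x)).comap π with hD
      have hmem : ∀ d ∈ D, d * x * d⁻¹ * x⁻¹ ∈ R := fun d hd => by
        rw [← QuotientGroup.eq_one_iff]
        show π (d * x * d⁻¹ * x⁻¹) = 1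
        rw [map_mul, map_mul, map_mul, map_inv, map_inv, (mem_cent.1 hd).eq]
        group
      let δ : D →* R :=
        { toFun := fun d => ⟨(d : G) * x * (d : G)⁻¹ * x⁻¹, hmem _ d.2⟩
          map_one' := Subtype.ext (by simp)
          map_mul' := fun d d' => Subtype.ext (by
            have hc' := Subgroup.mem_center_iff.1 (hcen (hmem _ d'.2))
            push_cast
            calc (d : G) * d' * x * ((d : G) * d')⁻¹ * x⁻¹
                = (d : G) * ((d' : G) * x * (d' : G)⁻¹ * x⁻¹) * (x * (d : G)⁻¹ * x⁻¹) := by group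
              _ = ((d' : G) * x * (d' : G)⁻¹ * x⁻¹) * d * (x * (d : G)⁻¹ * x⁻¹) := by rw [hc']
              _ = ((d' : G) * x * (d' : G)⁻¹ * x⁻¹) * ((d : G) * x * (d : G)⁻¹ * x⁻¹) := by group
              _ = _ := (hc' _).symm) }
      have hyD : y ∈ D := mem_cent.2 (hcomm y hy)
      have hker : δ.ker = (cent x).subgroupOf D := by
        ext d
        rw [MonoidHom.mem_ker, Subgroup.mem_subgroupOf, mem_cent]
        refine Subtype.ext_iff.trans ?_
        show (d : G) * x * (d : G)⁻¹ * x⁻¹ = 1 ↔ _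
        rw [mul_inv_eq_one, mul_inv_eq_iff_eq_mul]
        rfl
      have hlx : l ∣ (cent x).index := by
        have hne : δ ⟨y, hyD⟩ ≠ 1 := fun h => hxy (by
          have h' : (⟨y, hyD⟩ : D) ∈ (cent x).subgroupOf D := hker ▸ MonoidHom.mem_ker.2 h
          exact (mem_cent.1 h').eq.symm)
        have hpow : ∃ k, δ ⟨y, hyD⟩ ^ l ^ k = 1 := by
          obtain ⟨k, hk⟩ := T.2 ⟨y, hy⟩
          refine ⟨k, ?_⟩
          rw [← map_pow, show (⟨y, hyD⟩ : D) ^ l ^ k = 1 from
            Subtype.ext (congrArg Subtype.val hk : _), map_one]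
        obtain ⟨k, hk⟩ := hpow
        obtain ⟨j, -, hj⟩ := (Nat.dvd_prime_pow hl).1 (orderOf_dvd_of_pow_eq_one hk)
        have hj0 : j ≠ 0 := fun h => hne (orderOf_eq_one_iff.1 (by rw [hj, h, pow_zero]))
        have h1 : l ∣ Nat.card δ.range :=
          (dvd_pow_self l hj0).trans (hj ▸ Subgroup.orderOf_dvd_natCard δ.range ⟨_, rfl⟩)
        rw [← Subgroup.index_ker, hker] at h1
        have hle : cent x ≤ D := fun g hg => mem_cent.2 ((mem_cent.1 hg).map π)
        exact h1.trans (Subgroup.relIndex_dvd_index_of_le hle)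
      exact false_of_setup hc hSS hx1 hl hls (dvd_index_of_map hsurj x) hlx
  · obtain ⟨l, hl, r, hrR, ⟨k, hk⟩, hrz⟩ : ∃ l : ℕ, l.Prime ∧ ∃ r ∈ R, (∃ k : ℕ, r ^ l ^ k = 1) ∧
        r ∉ Subgroup.center G := by
      set Z := (Subgroup.center G).subgroupOf R with hZ
      have hZne : Z.index ≠ 1 := fun h => hcen (Subgroup.subgroupOf_eq_top.1 (Subgroup.index_eq_one.1 h))
      obtain ⟨l, hl, hd⟩ := Nat.exists_prime_and_dvd hZne
      haveI := Fact.mk hl
      obtain ⟨P⟩ : Nonempty (Sylow l R) := inferInstance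
      have hnle : ¬ (P : Subgroup R) ≤ Z := fun h =>
        P.not_dvd_index (hd.trans (Subgroup.index_dvd_of_le h))
      obtain ⟨r, hrP, hrZ⟩ := SetLike.not_le_iff_exists.1 hnle
      obtain ⟨k, hk⟩ := P.2 ⟨r, hrP⟩
      exact ⟨l, hl, r, r.2, ⟨k, congrArg (fun t : (P : Subgroup R) => ((t : R) : G)) hk⟩, hrZ⟩
    haveI := Fact.mk hl
    let L : Subgroup G :=
      { carrier := {g | g ∈ R ∧ ∃ k : ℕ, g ^ l ^ k = 1}
        one_mem' := ⟨one_mem R, 0, one_pow _⟩
        mul_mem' := by
          rintro a b ⟨ha, i, hi⟩ ⟨hb, j, hj⟩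
          refine ⟨mul_mem ha hb, i + j, ?_⟩
          rw [(show Commute a b from hab a ha b hb).mul_pow]
          nth_rewrite 1 [pow_add]
          rw [pow_mul, hi, one_pow, one_mul, pow_add, mul_comm, pow_mul, hj, one_pow]
        inv_mem' := by
          rintro a ⟨ha, i, hi⟩
          exact ⟨inv_mem ha, i, by rw [inv_pow, hi, inv_one]⟩ }
    haveI hLn : L.Normal := ⟨fun a ⟨ha, i, hi⟩ g =>
      ⟨(inferInstance : R.Normal).conj_mem a ha g, i, by rw [conj_pow, hi]; group⟩⟩
    have hLp : IsPGroup l L := fun a => by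
      obtain ⟨i, hi⟩ := a.2.2
      exact ⟨i, Subtype.ext (by rw [Subgroup.coe_pow]; exact hi)⟩
    let C : Subgroup G := (MulAut.conjNormal : G →* MulAut L).ker
    have hCmem : ∀ g, g ∈ C ↔ ∀ a ∈ L, g * a = a * g := fun g => by
      constructor
      · intro hg a ha
        have := congrArg Subtype.val (DFunLike.congr_fun (show MulAut.conjNormal g = 1 from hg) (⟨a, ha⟩ : L))
        rw [MulAut.conjNormal_apply, MulAut.one_apply] at this
        exact mul_inv_eq_iff_eq_mul.1 this
      · intro hg
        refine MulEquiv.ext fun a => Subtype.ext ?_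
        rw [MulAut.conjNormal_apply, MulAut.one_apply]
        exact mul_inv_eq_iff_eq_mul.2 (hg a a.2)
    have hCne : C ≠ ⊤ := fun h => hrz (Subgroup.mem_center_iff.2 fun g =>
      (hCmem g).1 (h ▸ Subgroup.mem_top g) r ⟨hrR, k, hk⟩)
    haveI := hprop C (MonoidHom.normal_ker _) hCne
    have hCR : C ≤ R := by
      rcases ((MonoidHom.normal_ker (MulAut.conjNormal : G →* MulAut L)).map π hsurj).eq_bot_or_eq_top
        with h | h
      · intro g hg
        exact (QuotientGroup.eq_one_iff g).1 (Subgroup.mem_bot.1 (h ▸ ⟨g, hg, rfl⟩))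
      · exfalso
        have hs' : Function.Surjective (π.comp C.subtype) := fun q => by
          obtain ⟨c, hc', hcq⟩ := (h ▸ Subgroup.mem_top q : q ∈ C.map π)
          exact ⟨⟨c, hc'⟩, hcq⟩
        haveI := Group.isSolvable_of_surjective hs'
        obtain ⟨a, b, hab'⟩ := hSS.nonab
        exact hab' (IsSimpleGroup.comm_iff_isSolvable.2 inferInstance a b)
    obtain ⟨s, hs, hls⟩ := exists_missing hSS hl
    obtain ⟨g, rfl⟩ := hsurj s
    have hgC : g ∉ C := fun h => hs ((QuotientGroup.eq_one_iff g).2 (hCR h))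
    have hlx : l ∣ (cent g).index := by
      refine dvd_trans ?_ (relIndex_dvd (cent g) L)
      obtain ⟨n, hn⟩ := IsPGroup.iff_card.1 hLp
      obtain ⟨j, -, hj⟩ := (Nat.dvd_prime_pow hl).1 (hn ▸ Subgroup.relIndex_dvd_card (cent g) L)
      rw [hj]
      refine dvd_pow_self l fun h => hgC ?_
      rw [h, pow_zero, Subgroup.relIndex_eq_one] at hj
      exact (hCmem g).2 fun a ha => (mem_cent.1 (hj ha)).eq.symm
    exact false_of_setup hc hSS hs hl hls (dvd_index_of_map hsurj g) hlx

/-- A nonsolvable group with the hypothesis has a normal `A₅` or `L₂(8)`. -/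
theorem exists_model
    (hs : ∀ (H : Type u) [Group H] [Finite H], Setup H → Model H) :
    ∀ (n : ℕ) (G : Type u) [Group G] [Finite G], Nat.card G = n → ClassTwo G →
      ¬ Group.IsSolvable G → ∃ S : Subgroup G, S.Normal ∧ Model S := by
  intro n
  induction n using Nat.strong_induction_on with
  | _ n ih =>
  intro G _ _ hn hc hns
  by_cases hex : ∃ N : Subgroup G, N.Normal ∧ N ≠ ⊤ ∧ ¬ Group.IsSolvable N
  · obtain ⟨N, hN, hNt, hNns⟩ := hex
    haveI := hN
    have hlt : Nat.card N < n := hn ▸ lt_of_le_of_ne N.card_le_card_group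
      (fun h => hNt (Subgroup.eq_top_of_card_eq N h))
    obtain ⟨T, hT, hTm⟩ := ih _ hlt N rfl (hc.of_normal N) hNns
    haveI := hT
    obtain ⟨-, hsup⟩ := split (hc.of_normal N) T hTm
    obtain ⟨M, _, _, hM, ⟨e⟩⟩ := hTm.exists_nice
    haveI := hM.simple
    haveI := e.isSimpleGroup
    have h1 : ⁅T, T⁆ = T := by
      rw [← Subgroup.map_subtype_commutator]
      rcases ((inferInstance : (commutator T).Normal)).eq_bot_or_eq_top with h | h
      · exfalso
        obtain ⟨a, b, hab⟩ := hM.nonab
        refine hab (e.symm.injective ?_)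
        have hm : ⁅e.symm a, e.symm b⁆ ∈ commutator T :=
          Subgroup.commutator_mem_commutator (Subgroup.mem_top _) (Subgroup.mem_top _)
        rw [h, Subgroup.mem_bot, commutatorElement_eq_one_iff_mul_comm] at hm
        rw [map_mul, map_mul]; exact hm
      · rw [h, ← MonoidHom.range_eq_map, Subgroup.range_subtype]
    have h2 : commutator N = T := by
      refine le_antisymm ?_ ?_
      · rw [commutator_def, Subgroup.commutator_le]
        intro a _ b _
        obtain ⟨z, hz, t, ht, rfl⟩ := Subgroup.mem_sup_of_normal_right.1 (hsup ▸ Subgroup.mem_top a)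
        obtain ⟨z', hz', t', ht', rfl⟩ := Subgroup.mem_sup_of_normal_right.1 (hsup ▸ Subgroup.mem_top b)
        have c1 := Subgroup.mem_center_iff.1 hz
        have c2 := Subgroup.mem_center_iff.1 hz'
        have : ⁅z * t, z' * t'⁆ = ⁅t, t'⁆ := by
          simp only [commutatorElement_def, _root_.mul_inv_rev]
          calc z * t * (z' * t') * (t⁻¹ * z⁻¹) * (t'⁻¹ * z'⁻¹)
              = z * (t * z') * t' * t⁻¹ * (z⁻¹ * t'⁻¹) * z'⁻¹ := by group
            _ = z * (z' * t) * t' * t⁻¹ * (t'⁻¹ * z⁻¹) * z'⁻¹ := by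
                rw [c2 t, ← (Commute.inv_right (show Commute t'⁻¹ z from c1 _)).eq]
            _ = (z * z') * (t * t' * t⁻¹ * t'⁻¹) * (z' * z)⁻¹ := by group
            _ = (t * t' * t⁻¹ * t'⁻¹) * (z * z') * (z' * z)⁻¹ := by
                rw [← Subgroup.mem_center_iff.1 (mul_mem hz hz') _]
            _ = _ := by rw [c1 z']; group
        rw [this]
        exact h1 ▸ Subgroup.commutator_mem_commutator ht ht'
      · exact h1.ge.trans (Subgroup.commutator_mono le_top le_top)
    refine ⟨T.map N.subtype, ?_, hTm.of_equiv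
      (T.equivMapOfInjective N.subtype N.subtype_injective).symm⟩
    rw [← h2, Subgroup.map_subtype_commutator]
    infer_instance
  · push Not at hex
    have hntr : (⊥ : Subgroup G) ≠ ⊤ := fun h => hns (Group.isSolvable_of_top_eq_bot G h.symm)
    obtain ⟨R, hRmax⟩ := (Set.toFinite {N : Subgroup G | N.Normal ∧ N ≠ ⊤}).exists_maximal
      ⟨⊥, inferInstance, hntr⟩
    obtain ⟨hRn, hRt⟩ := hRmax.1
    haveI := hRn
    haveI := hex R hRn hRt
    haveI hsimple : IsSimpleGroup (G ⧸ R) := by
      haveI : Nontrivial (G ⧸ R) := QuotientGroup.nontrivial_iff.2 hRt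
      refine ⟨fun H hH => ?_⟩
      have hle : R ≤ H.comap (QuotientGroup.mk' R) := fun g hg => by
        show QuotientGroup.mk' R g ∈ H
        rw [QuotientGroup.mk'_apply, (QuotientGroup.eq_one_iff g).2 hg]; exact one_mem H
      have hsurj := QuotientGroup.mk'_surjective R
      by_cases ht : H.comap (QuotientGroup.mk' R) = ⊤
      · exact Or.inr (Subgroup.comap_injective hsurj (ht.trans (Subgroup.comap_top _).symm))
      · refine Or.inl (Subgroup.comap_injective hsurj ?_)
        rw [MonoidHom.comap_bot, QuotientGroup.ker_mk']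
        exact le_antisymm (hRmax.2 ⟨hH.comap _, ht⟩ hle) hle
    have hnab : ∃ a b : G ⧸ R, a * b ≠ b * a := by
      by_contra h
      push Not at h
      haveI := Group.isSolvable_of_comm h
      exact hns ((Group.isSolvable_iff_subgroup_quotient R).2 ⟨inferInstance, inferInstance⟩)
    have hmodel : Model (G ⧸ R) :=
      hs _ ⟨hsimple, hnab, hc.of_surjective (QuotientGroup.mk'_surjective R)⟩
    by_cases hR : R = ⊥
    · subst hR
      exact ⟨⊤, inferInstance, hmodel.of_equiv
        (Subgroup.topEquiv.trans QuotientGroup.quotientBot.symm)⟩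
    · exfalso
      have hK : ⁅R, R⁆ < R := by
        haveI : Nontrivial R := (Subgroup.nontrivial_iff_ne_bot R).2 hR
        rw [← R.range_subtype, MonoidHom.range_eq_map, ← Subgroup.map_commutator,
          Subgroup.map_subtype_lt_map_subtype]
        exact Group.IsSolvable.commutator_lt_top_of_nontrivial R
      set K := ⁅R, R⁆ with hKdef
      set π := QuotientGroup.mk' K with hπ
      have hsurj := QuotientGroup.mk'_surjective K
      haveI : (R.map π).Normal := hRn.map π hsurj
      have hns' : ¬ Group.IsSolvable (G ⧸ K) := fun h => hns (by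
        haveI := h
        haveI : Group.IsSolvable K := hex K inferInstance
          (fun h' => hRt (top_le_iff.1 (h' ▸ hK.le)))
        exact (Group.isSolvable_iff_subgroup_quotient K).2 ⟨inferInstance, inferInstance⟩)
      refine no_ext (hc.of_surjective hsurj) hns' (fun H hH hHt => ?_) (R.map π) ?_ ?_
        (hmodel.of_equiv (QuotientGroup.quotientQuotientEquivQuotient K R hK.le))
      · haveI := hex (H.comap π) (hH.comap π) fun h =>
          hHt (Subgroup.comap_injective hsurj (h.trans (Subgroup.comap_top π).symm))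
        exact Group.isSolvable_of_surjective (f := π.subgroupComap H)
          fun ⟨q, hq⟩ => by
            obtain ⟨g, rfl⟩ := hsurj q
            exact ⟨⟨g, hq⟩, rfl⟩
      · intro h
        refine hK.not_ge fun a ha => ?_
        exact (QuotientGroup.eq_one_iff a).1 (Subgroup.mem_bot.1 (h ▸ ⟨a, ha, rfl⟩))
      · rintro _ ⟨a, ha, rfl⟩ _ ⟨b, hb, rfl⟩
        rw [← commutatorElement_eq_one_iff_mul_comm, ← map_commutatorElement]
        exact (QuotientGroup.eq_one_iff _).2 (Subgroup.commutator_mem_commutator ha hb)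

/-- The reduction of the classification to simple groups. -/
theorem reduce
    (hs : ∀ (H : Type u) [Group H] [Finite H], Setup H →
      Nonempty (H ≃* alternatingGroup (Fin 5)) ∨
        Nonempty (H ≃* Matrix.ProjectiveSpecialLinearGroup (Fin 2) (GaloisField 2 3)))
    {G : Type u} [Group G] [Finite G] (h : ClassTwo G) :
    Group.IsSolvable G ∨ ∃ S : Subgroup G, S.Normal ∧ Subgroup.center G ⊓ S = ⊥ ∧
      Subgroup.center G ⊔ S = ⊤ ∧
      (Nonempty (S ≃* alternatingGroup (Fin 5)) ∨
        Nonempty (S ≃* Matrix.ProjectiveSpecialLinearGroup (Fin 2) (GaloisField 2 3))) := by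
  by_cases hsol : Group.IsSolvable G
  · exact Or.inl hsol
  · obtain ⟨S, hS, hm⟩ := exists_model hs _ G rfl h hsol
    haveI := hS
    exact Or.inr ⟨S, hS, (split h S hm).1, (split h S hm).2, hm⟩

end Cfsg.Agent.TwoPrime63
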