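import Cfsg.Agent.ThreeSize7.NC
import Cfsg.Agent.Lib.CharCore.Burnside
import Cfsg.Agent.Lib.CharClifford.Burnside

/-!
# Class sizes with at most two prime divisors: basic facts

`sig x` is the set of primes dividing the class size of `x`; in a simple group it has exactly
two members for `x ≠ 1`, and it is unchanged by powers and by commuting coprime factors.
-/

set_option autoImplicit false
set_option linter.unusedSectionVars false
set_option linter.style.haveILetI false

namespace Cfsg.Agent.TwoPrime63

open Agent.Ito7 (cent mem_cent self_mem_cent cent_le_pow cent_mul mul_ne_one_of_coprime)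

universe u

/-- Every class size has at most two prime divisors. -/
def ClassTwo (G : Type u) [Group G] : Prop :=
  ∀ x : G, ((Subgroup.centralizer ({x} : Set G)).index).primeFactors.card ≤ 2

variable {G : Type u} [Group G] [Finite G]

/-- The primes dividing the class size. -/
noncomputable abbrev sig (x : G) : Finset ℕ := (cent x).index.primeFactors

theorem mem_sig {x : G} {r : ℕ} (hr : r.Prime) : r ∈ sig x ↔ r ∣ (cent x).index :=
  ⟨fun h => Nat.dvd_of_mem_primeFactors h,
    fun h => Nat.mem_primeFactors.2 ⟨hr, h, Subgroup.index_ne_zero_of_finite⟩⟩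

theorem sig_subset_card (x : G) : sig x ⊆ (Nat.card G).primeFactors :=
  Nat.primeFactors_mono (Subgroup.index_dvd_card _) Nat.card_pos.ne'

theorem sig_mono {x y : G} (h : cent x ≤ cent y) : sig y ⊆ sig x :=
  Nat.primeFactors_mono (Subgroup.index_dvd_of_le h) Subgroup.index_ne_zero_of_finite

/-- The hypotheses of the simple case. -/
structure Setup (G : Type u) [Group G] [Finite G] : Prop where
  simple : IsSimpleGroup G
  nonab : ∃ a b : G, a * b ≠ b * a
  two : ClassTwo G

namespace Setup

variable (S : Setup G)
include S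

theorem not_prime : ¬ (Nat.card G).Prime := fun hp => by
  haveI := Fact.mk hp
  haveI : IsCyclic G := isCyclic_of_prime_card (p := Nat.card G) rfl
  obtain ⟨a, b, hab⟩ := S.nonab
  exact hab (IsCyclic.commGroup.mul_comm a b)

theorem center_eq_bot : Subgroup.center G = ⊥ := by
  haveI := S.simple
  refine ((inferInstance : (Subgroup.center G).Normal).eq_bot_or_eq_top).resolve_right fun h => ?_
  obtain ⟨a, b, hab⟩ := S.nonab
  exact hab (Subgroup.mem_center_iff.1 (h ▸ Subgroup.mem_top b) a)

theorem sig_card {x : G} (hx : x ≠ 1) : (sig x).card = 2 := by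
  refine le_antisymm (S.two x) ?_
  by_contra h
  haveI := S.simple
  rcases Nat.le_one_iff_eq_zero_or_eq_one.1 (Nat.lt_succ_iff.1 (not_le.1 h)) with h0 | h1
  · rw [Finset.card_eq_zero, Nat.primeFactors_eq_empty] at h0
    refine h0.elim (fun h0 => Subgroup.index_ne_zero_of_finite h0) fun h0 => hx ?_
    have hc : x ∈ Subgroup.center G := Subgroup.mem_center_iff.2 fun g =>
      mem_cent.1 (show g ∈ cent x by rw [Subgroup.index_eq_one.1 h0]; trivial)
    rwa [S.center_eq_bot, Subgroup.mem_bot] at hc
  · obtain ⟨p, hp⟩ := Finset.card_eq_one.1 h1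
    have hpp : p.Prime := Nat.prime_of_mem_primeFactors (n := (cent x).index) (by
      rw [show (cent x).index.primeFactors = {p} from hp]; exact Finset.mem_singleton_self p)
    exact S.not_prime (CharCore.prime_card_of_prime_power_class (g := x) hpp hx
      (ThreeSize7.exists_eq_pow_of_unique Subgroup.index_ne_zero_of_finite fun d hd hne hdd =>
        hne (Finset.mem_singleton.1 (hp ▸ (mem_sig hd).2 hdd))).choose_spec)

theorem sig_eq_of_le {x y : G} (hy : y ≠ 1) (hx : x ≠ 1) (h : cent x ≤ cent y) : sig y = sig x :=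
  Finset.eq_of_subset_of_card_le (sig_mono h) (by rw [S.sig_card hx, S.sig_card hy])

theorem sig_pow {x : G} {k : ℕ} (hk : x ^ k ≠ 1) : sig (x ^ k) = sig x :=
  S.sig_eq_of_le hk (fun h => hk (by rw [h, one_pow])) (cent_le_pow x k)

theorem sig_commute {x y : G} (hx : x ≠ 1) (hy : y ≠ 1) (hc : Commute x y)
    (hcop : (orderOf x).Coprime (orderOf y)) : sig x = sig y ∧ sig (x * y) = sig x := by
  have hxy := mul_ne_one_of_coprime hx hcop
  have h1 := S.sig_eq_of_le hx hxy ((cent_mul hc hcop).le.trans inf_le_left)
  have h2 := S.sig_eq_of_le hy hxy ((cent_mul hc hcop).le.trans inf_le_right)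
  exact ⟨h1.trans h2.symm, h1.symm⟩

/-- An element centralizing a full Sylow `r`-subgroup commutes with a conjugate of every
`r`-element. -/
theorem sig_of_full {x u : G} {r i : ℕ} (hr : r.Prime) (hx : x ≠ 1) (hxr : (orderOf x).Coprime r)
    (hfull : r ∉ sig x) (hu : orderOf u = r ^ i) (hu1 : u ≠ 1) : sig u = sig x := by
  obtain ⟨g, hg⟩ := ThreeSize7.exists_conj_mem hr (fun h => hfull ((mem_sig hr).2 h)) hu
  have hc : Commute (g * u * g⁻¹) x := mem_cent.1 hg
  have ho : orderOf (g * u * g⁻¹) = orderOf u := by
    rw [show g * u * g⁻¹ = MulAut.conj g u from rfl, MulEquiv.orderOf_eq]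
  have hg1 : g * u * g⁻¹ ≠ 1 := fun h => hu1 (conj_eq_one_iff.1 h)
  have h1 := (S.sig_commute hx hg1 hc.symm (by
    rw [ho, hu]; exact Nat.Coprime.pow_right i hxr)).1
  rw [h1]
  have hidx : ∀ c y : G, (cent (c * y * c⁻¹)).index = (cent y).index := by
    intro c y
    have hmap : (cent y).map (MulAut.conj c).toMonoidHom = cent (c * y * c⁻¹) := by
      refine le_antisymm ?_ fun z hz => ⟨c⁻¹ * z * c, mem_cent.2 ?_, by simp; group⟩
      · rintro _ ⟨z, hz, rfl⟩
        exact mem_cent.2 ((mem_cent.1 hz).map (MulAut.conj c).toMonoidHom)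
      · have := (mem_cent.1 hz).map (MulAut.conj c⁻¹).toMonoidHom
        simpa [mul_assoc] using this
    rw [← hmap]
    exact Subgroup.index_map_of_bijective (MulAut.conj c).bijective _
  show (cent u).index.primeFactors = (cent (g * u * g⁻¹)).index.primeFactors
  rw [hidx g u]

theorem two_lt_card_primeFactors : 2 < (Nat.card G).primeFactors.card := by
  by_contra h
  haveI := S.simple
  obtain ⟨a, b, hab⟩ := S.nonab
  have ha : a ≠ 1 := fun ha => hab (by simp [ha])
  have h2 : (Nat.card G).primeFactors.card = 2 := le_antisymm (not_lt.1 h)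
    (le_trans (S.sig_card ha).ge (Finset.card_le_card (sig_subset_card a)))
  obtain ⟨p, q, hpq, hP⟩ := Finset.card_eq_two.1 h2
  have hp : p.Prime := Nat.prime_of_mem_primeFactors (n := Nat.card G) (by rw [hP]; simp)
  have hq : q.Prime := Nat.prime_of_mem_primeFactors (n := Nat.card G) (by rw [hP]; simp)
  refine hab (CharClifford.isSolvable_of_two_prime_divisors_simple (p := p) (q := q)
    (a := (Nat.card G).factorization p) (b := (Nat.card G).factorization q) hp hq ?_ a b)
  conv_lhs => rw [← Nat.prod_factorization_pow_eq_self (Nat.card_pos (α := G)).ne']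
  rw [Finsupp.prod, Nat.support_factorization, hP, Finset.prod_pair hpq]

end Setup

end Cfsg.Agent.TwoPrime63
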