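import Cfsg.Agent.TwoPrime63.Basic
import Mathlib.GroupTheory.Transfer

/-!
# Class sizes with at most two prime divisors: the covering inequality

With three primes, every element is centralized by a full Sylow subgroup, which forces the odd
Sylow subgroups to be abelian with small automizers.
-/

set_option autoImplicit false
set_option linter.unusedSectionVars false
set_option linter.style.haveILetI false

namespace Cfsg.Agent.TwoPrime63

open Agent.Ito7 (cent mem_cent self_mem_cent)
open Subgroup (centralizer normalizer)

universe u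

variable {G : Type u} [Group G] [Finite G]

/-- `x` centralizes a full Sylow `r`-subgroup. -/
def Full (r : ℕ) (x : G) : Prop := ¬ r ∣ (cent x).index

theorem exists_sylow_le {r : ℕ} [Fact r.Prime] {H : Subgroup G} (hH : ¬ r ∣ H.index) :
    ∃ Q : Sylow r G, (Q : Subgroup G) ≤ H := by
  obtain ⟨S⟩ := (inferInstance : Nonempty (Sylow r H))
  refine ⟨Sylow.ofCard ((S : Subgroup H).map H.subtype) ?_, Subgroup.map_subtype_le _⟩
  rw [Subgroup.card_map_of_injective H.subtype_injective, S.card_eq_multiplicity]
  congr 1
  rw [← Subgroup.card_mul_index H, Nat.factorization_mul Nat.card_pos.ne'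
    Subgroup.index_ne_zero_of_finite, Finsupp.add_apply,
    Nat.factorization_eq_zero_of_not_dvd hH, add_zero]

theorem exists_sylow_le_cent {r : ℕ} [Fact r.Prime] {x : G} (h : Full r x) :
    ∃ P : Sylow r G, x ∈ centralizer ((P : Subgroup G) : Set G) := by
  obtain ⟨R, hR⟩ := exists_sylow_le (H := cent x) h
  exact ⟨R, Subgroup.mem_centralizer_iff.2 fun g hg => mem_cent.1 (hR hg)⟩

/-- The order of the automizer of a Sylow subgroup. -/
noncomputable def autOrder {r : ℕ} (P : Sylow r G) : ℕ :=
  (centralizer ((P : Subgroup G) : Set G)).relIndex (normalizer ((P : Subgroup G) : Set G))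

theorem autOrder_mul_card {r : ℕ} [Fact r.Prime] (P : Sylow r G) :
    autOrder P * (Nat.card (Sylow r G) * Nat.card (centralizer ((P : Subgroup G) : Set G))) =
      Nat.card G := by
  have h : centralizer ((P : Subgroup G) : Set G) ≤ normalizer ((P : Subgroup G) : Set G) :=
    Subgroup.centralizer_le_normalizer _
  have h2 := Subgroup.relIndex_mul_index h
  have h3 := (centralizer ((P : Subgroup G) : Set G)).card_mul_index
  have h4 : Nat.card (Sylow r G) = (normalizer ((P : Subgroup G) : Set G)).index :=
    P.card_eq_index_normalizer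
  rw [← h2] at h3
  rw [h4, autOrder, ← h3]
  ring

theorem autOrder_pos {r : ℕ} (P : Sylow r G) : 0 < autOrder P :=
  Nat.pos_of_ne_zero ((Subgroup.index_ne_zero_of_finite (G := _)))

theorem autOrder_dvd {r : ℕ} [Fact r.Prime] (P : Sylow r G) : autOrder P ∣ Nat.card G :=
  ⟨_, (autOrder_mul_card P).symm⟩

theorem relIndex_le_autOrder {r : ℕ} (P : Sylow r G) :
    (centralizer ((P : Subgroup G) : Set G)).relIndex (P : Subgroup G) ≤ autOrder P :=
  Subgroup.relIndex_le_of_le_right Subgroup.le_normalizer Subgroup.index_ne_zero_of_finite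

theorem card_centralizer_sylow {r : ℕ} [Fact r.Prime] (P Q : Sylow r G) :
    Nat.card (centralizer ((Q : Subgroup G) : Set G)) =
      Nat.card (centralizer ((P : Subgroup G) : Set G)) := by
  have h := autOrder_mul_card P
  obtain ⟨g, rfl⟩ := MulAction.exists_smul_eq G P Q
  refine Nat.card_congr ((MulAut.conj g).toEquiv.subtypeEquiv fun x => ?_).symm
  simp only [Subgroup.mem_centralizer_iff, Sylow.coe_subgroup_smul, SetLike.mem_coe,
    MulEquiv.toEquiv_eq_coe, EquivLike.coe_coe]
  constructor
  · intro hx y hy
    have hy' := hx _ (Frobenius.mem_conj_smul.1 hy)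
    have e : y = MulAut.conj g (g⁻¹ * y * g) := by simp [mul_assoc]
    rw [e, ← map_mul, ← map_mul, hy']
  · intro hx y hy
    have := hx (MulAut.conj g y) (Frobenius.mem_conj_smul.2 (by simpa [mul_assoc] using hy))
    rw [← map_mul, ← map_mul] at this
    exact (MulAut.conj g).injective this

namespace Setup

variable (S : Setup G)
include S

theorem autOrder_two_le {r : ℕ} [Fact r.Prime] (hr : r ∣ Nat.card G) (P : Sylow r G) :
    2 ≤ autOrder P := by
  have hne : autOrder P ≠ 1 := by
    intro h1
    haveI := S.simple
    have hP1 : (P : Subgroup G) ≠ ⊥ := P.ne_bot_of_dvd_card hr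
    have hP2 : (P : Subgroup G) ≠ ⊤ := fun h => by
      haveI : Nontrivial G := inferInstance
      have hpg : IsPGroup r G := IsPGroup.of_equiv (h ▸ P.isPGroup') Subgroup.topEquiv
      haveI := hpg.center_nontrivial
      exact (not_subsingleton (Subgroup.center G)) (by rw [S.center_eq_bot]; infer_instance)
    have hle := Subgroup.relIndex_eq_one.1 h1
    have hc := MonoidHom.ker_transferSylow_isComplement' P hle
    rcases (MonoidHom.transferSylow P hle).normal_ker.eq_bot_or_eq_top with h' | h' <;> rw [h'] at hc
    · exact hP2 (Subgroup.isComplement'_bot_left.1 hc)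
    · exact hP1 (Subgroup.isComplement'_top_left.1 hc)
  have := autOrder_pos P
  omega

theorem autOrder_odd_three_le {r : ℕ} [Fact r.Prime] (hr : r ∣ Nat.card G) (P : Sylow r G)
    (hodd : ¬ 2 ∣ autOrder P) : 3 ≤ autOrder P := by
  have := S.autOrder_two_le hr P
  omega

/-- Nonabelian Sylow subgroups have large automizers. -/
theorem sq_le_autOrder {r : ℕ} [Fact r.Prime] (P : Sylow r G)
    (hab : ¬ ∀ x ∈ (P : Subgroup G), ∀ y ∈ (P : Subgroup G), x * y = y * x) :
    r ^ 2 ≤ autOrder P := by
  have hr : r.Prime := Fact.out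
  refine le_trans ?_ (relIndex_le_autOrder P)
  set Q : Subgroup G := (P : Subgroup G)
  have hc : (centralizer (Q : Set G)).subgroupOf Q = Subgroup.center Q := by
    ext x
    rw [Subgroup.mem_subgroupOf, Subgroup.mem_centralizer_iff, Subgroup.mem_center_iff]
    exact ⟨fun h y => Subtype.ext (h y y.2), fun h y hy => congrArg Subtype.val (h ⟨y, hy⟩)⟩
  show r ^ 2 ≤ ((centralizer (Q : Set G)).subgroupOf Q).index
  rw [hc]
  obtain ⟨n, hn⟩ := P.isPGroup'.index (Subgroup.center Q)
  rw [hn]
  refine Nat.pow_le_pow_right hr.pos ?_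
  by_contra hlt
  apply hab
  haveI : IsCyclic (Q ⧸ Subgroup.center Q) := by
    rcases Nat.le_one_iff_eq_zero_or_eq_one.1 (Nat.lt_succ_iff.1 (not_le.1 hlt)) with rfl | rfl
    · haveI : Subsingleton (Q ⧸ Subgroup.center Q) := (Nat.card_eq_one_iff_unique.1 (by
        rw [← Subgroup.index_eq_card, hn, pow_zero])).1
      infer_instance
    · exact isCyclic_of_prime_card (p := r) (by rw [← Subgroup.index_eq_card, hn, pow_one])
  intro x hx y hy
  exact congrArg Subtype.val (commutative_of_cyclic_center_quotient
    (QuotientGroup.mk' (Subgroup.center Q)) (by rw [QuotientGroup.ker_mk']) ⟨x, hx⟩ ⟨y, hy⟩)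

/-- The covering inequality. -/
theorem cover {a b c : ℕ} [Fact a.Prime] [Fact b.Prime] [Fact c.Prime]
    (hπ : (Nat.card G).primeFactors = {a, b, c}) (hcard : (Nat.card G).primeFactors.card = 3)
    (A : Sylow a G) (B : Sylow b G) (C : Sylow c G) :
    Nat.card G < Nat.card (Sylow a G) * Nat.card (centralizer ((A : Subgroup G) : Set G)) +
      Nat.card (Sylow b G) * Nat.card (centralizer ((B : Subgroup G) : Set G)) +
      Nat.card (Sylow c G) * Nat.card (centralizer ((C : Subgroup G) : Set G)) := by
  classical
  haveI := Fintype.ofFinite G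
  have key : ∀ (r : ℕ) [Fact r.Prime] (R : Sylow r G),
      (Finset.univ.filter fun x : G => x = 1 ∨ Full r x).card ≤
        Nat.card (Sylow r G) * Nat.card (centralizer ((R : Subgroup G) : Set G)) := by
    intro r _ R
    haveI := Fintype.ofFinite (Sylow r G)
    refine le_trans (Finset.card_le_card (t := Finset.univ.biUnion fun P : Sylow r G =>
      Finset.univ.filter fun x : G => x ∈ centralizer ((P : Subgroup G) : Set G)) fun x hx => ?_) ?_
    · simp only [Finset.mem_filter, Finset.mem_univ, true_and, Finset.mem_biUnion] at hx ⊢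
      rcases hx with rfl | h
      · exact ⟨R, one_mem _⟩
      · exact exists_sylow_le_cent h
    · refine le_trans (Finset.card_biUnion_le) (le_of_eq ?_)
      rw [Finset.sum_congr rfl fun P _ => show _ = Nat.card (centralizer ((R : Subgroup G) : Set G))
        from by rw [← card_centralizer_sylow R P, Nat.card_eq_fintype_card, Fintype.card_subtype]]
      simp [Nat.card_eq_fintype_card]
  have ha := key a A
  have hb := key b B
  have hc := key c C
  set α := Finset.univ.filter fun x : G => x = 1 ∨ Full a x
  set β := Finset.univ.filter fun x : G => x = 1 ∨ Full b x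
  set γ := Finset.univ.filter fun x : G => x = 1 ∨ Full c x
  have hall : Finset.univ ⊆ α ∪ β ∪ γ := by
    intro x _
    simp only [α, β, γ, Finset.mem_union, Finset.mem_filter, Finset.mem_univ, true_and]
    by_cases hx : x = 1
    · simp [hx]
    have hne : ¬ (Nat.card G).primeFactors ⊆ sig x := fun h => by
      have := Finset.card_le_card h
      rw [hcard, S.sig_card hx] at this
      omega
    obtain ⟨r, hr, hrs⟩ := Finset.not_subset.1 hne
    have hF : Full r x := fun h => hrs ((mem_sig (Nat.prime_of_mem_primeFactors hr)).2 h)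
    rw [hπ] at hr
    simp only [Finset.mem_insert, Finset.mem_singleton] at hr
    rcases hr with rfl | rfl | rfl <;> simp [hF]
  have h1 := Finset.card_le_card hall
  rw [Finset.card_univ, ← Nat.card_eq_fintype_card] at h1
  have h2 := Finset.card_union_add_card_inter (α ∪ β) γ
  have h3 := Finset.card_union_le α β
  have h4 : 0 < ((α ∪ β) ∩ γ).card := Finset.card_pos.2 ⟨1, by simp [α, β, γ]⟩
  omega

end Setup

end Cfsg.Agent.TwoPrime63
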