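import Cfsg.Agent.TwoPrime63.Basic
import Cfsg.Agent.Lib.CharCore.Virtual

/-!
# Class sizes with at most two prime divisors: interfaces
-/

set_option autoImplicit false

namespace Cfsg.Agent.TwoPrime63

universe u

/-- An abelian Sylow `r`-subgroup `R`, `r` odd, whose fusion is inversion, and whose elements
`≠ 1` have centralisers with a normal `r`-complement of index `|R|`. -/
structure SecHyp {G : Type u} [Group G] (r : ℕ) (R : Subgroup G) : Prop where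
  prime : r.Prime
  odd : r ≠ 2
  pgroup : IsPGroup r R
  sylow : ¬ r ∣ R.index
  ne_bot : R ≠ ⊥
  comm : ∀ x ∈ R, ∀ y ∈ R, x * y = y * x
  fus : ∀ x ∈ R, ∀ y ∈ R, IsConj x y → y = x ∨ y = x⁻¹
  real : ∀ x ∈ R, IsConj x x⁻¹
  compl : ∀ x ∈ R, x ≠ 1 →
    Nat.card {g : G // g ∈ Subgroup.centralizer ({x} : Set G) ∧ ¬ r ∣ orderOf g} * Nat.card R =
      Nat.card (Subgroup.centralizer ({x} : Set G))

/-- A virtual character `1 + δχ + εψ` of degree zero vanishing on `r`-regular elements. -/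
structure NormThree {G : Type u} [Group G] (r : ℕ) (θ : G → ℂ) : Prop where
  gen : Cfsg.IsGeneralizedCharacter G θ
  vanish : ∀ g : G, ¬ r ∣ orderOf g → θ g = 0
  shape : ∃ (χ ψ : Cfsg.IrrCharacter G) (δ ε : ℤ), χ ≠ ψ ∧ (χ : G → ℂ) ≠ 1 ∧ (ψ : G → ℂ) ≠ 1 ∧
    (δ = 1 ∨ δ = -1) ∧ (ε = 1 ∨ ε = -1) ∧
    ∀ g : G, θ g = 1 + (δ : ℂ) * (χ : G → ℂ) g + (ε : ℂ) * (ψ : G → ℂ) g

end Cfsg.Agent.TwoPrime63
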