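import Cfsg.Agent.TwoPrime63.Basic
import Cfsg.Agent.PF14.Compose

/-!
# Class sizes with at most two prime divisors: only three primes divide the order

With four primes `{2, r, a, b}` the elements split into those of type `{a, b}` and those of type
`{2, r}`; the two centralizers are abelian of coprime orders with product `|G|`.
-/

set_option autoImplicit false
set_option linter.unusedSectionVars false
set_option linter.style.haveILetI false

namespace Cfsg.Agent.TwoPrime63

open Agent.Ito7 (cent mem_cent self_mem_cent cent_le_pow cent_mul)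

universe u

variable {G : Type u} [Group G] [Finite G]

theorem exists_prime_power {x : G} (hx : x ≠ 1) : ∃ k : ℕ, (orderOf (x ^ k)).Prime := by
  obtain ⟨t, ht, hdvd⟩ := Nat.exists_prime_and_dvd fun h => hx (orderOf_eq_one_iff.1 h)
  exact ⟨_, by rwa [orderOf_pow_orderOf_div (orderOf_pos x).ne' hdvd]⟩

theorem ne_one_of_prime_order {x : G} (h : (orderOf x).Prime) : x ≠ 1 := fun e => by
  rw [e, orderOf_one] at h; exact Nat.not_prime_one h

/-- A nontrivial element of prime order centralizing a Sylow subgroup for that prime. -/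
theorem exists_central_prime {p : ℕ} (hp : p.Prime) (hd : p ∣ Nat.card G) :
    ∃ z : G, orderOf z = p ∧ ¬ p ∣ (cent z).index := by
  haveI := Fact.mk hp
  obtain ⟨P⟩ := (inferInstance : Nonempty (Sylow p G))
  haveI : Nontrivial P := (Subgroup.nontrivial_iff_ne_bot _).2 (P.ne_bot_of_dvd_card hd)
  haveI := P.2.center_nontrivial
  have hdZ : p ∣ Nat.card (Subgroup.center P) := by
    rcases (P.2.to_subgroup (Subgroup.center P)).card_eq_or_dvd with h | h
    · exact absurd h Finite.one_lt_card.ne'
    · exact h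
  obtain ⟨w, hw⟩ := exists_prime_orderOf_dvd_card' p hdZ
  refine ⟨((w : P) : G), by rw [Subgroup.orderOf_coe, Subgroup.orderOf_coe, hw], fun h => ?_⟩
  refine P.not_dvd_index (h.trans (Subgroup.index_dvd_of_le fun s hs => mem_cent.2 ?_))
  exact congrArg Subtype.val (Subgroup.mem_center_iff.1 w.2 ⟨s, hs⟩)

namespace Setup

variable (S : Setup G)
include S

theorem two_dvd_card : 2 ∣ Nat.card G := by
  by_contra h
  haveI := S.simple
  obtain ⟨a, b, hab⟩ := S.nonab
  exact hab (IsSimpleGroup.comm_iff_isSolvable.2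
    (PF14.feitThompson G (Nat.odd_iff.2 (by omega))) a b)

/-- An element with full Sylow centralizer passes its `sig` to the elements of prime order. -/
theorem sig_of_full_prime {x v : G} {r : ℕ} (hr : r.Prime) (hx : x ≠ 1)
    (hxr : (orderOf x).Coprime r) (hfull : r ∉ sig x) (hv : orderOf v = r) : sig v = sig x :=
  S.sig_of_full (i := 1) hr hx hxr hfull (by rw [pow_one, hv])
    (ne_one_of_prime_order (hv.symm ▸ hr))

section Disjoint

variable (H : ∀ v : G, (orderOf v).Prime → orderOf v ∉ sig v)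
include H

theorem not_dvd_cent {x : G} (hx : x ≠ 1) {s : ℕ} (hs : s ∈ sig x) :
    ¬ s ∣ Nat.card (cent x) := by
  intro hd
  haveI := Fact.mk (Nat.prime_of_mem_primeFactors hs)
  obtain ⟨v, hv⟩ := exists_prime_orderOf_dvd_card' s hd
  rw [← Subgroup.orderOf_coe] at hv
  have hvp : (orderOf (v : G)).Prime := hv.symm ▸ (Fact.out : s.Prime)
  obtain ⟨k, hk⟩ := exists_prime_power hx
  have hy := S.sig_pow (ne_one_of_prime_order hk)
  by_cases e : orderOf (x ^ k) = s
  · exact H _ hk (by rw [hy, e]; exact hs)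
  · refine H _ hvp ?_
    rw [(S.sig_commute (ne_one_of_prime_order hvp) (ne_one_of_prime_order hk)
      ((mem_cent.1 v.2).pow_right k) (by
        rw [hv]; exact (Nat.coprime_primes (Fact.out : s.Prime) hk).2 fun h => e h.symm)).1, hy, hv]
    exact hs

theorem coprime_cent {x : G} (hx : x ≠ 1) :
    (Nat.card (cent x)).Coprime (cent x).index :=
  Nat.coprime_of_dvd fun s hs h1 h2 => S.not_dvd_cent H hx ((mem_sig hs).2 h2) h1

theorem card_cent_dvd {x y : G} (hx : x ≠ 1) (e : sig x = sig y) :
    Nat.card (cent x) ∣ Nat.card (cent y) := by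
  have hcop : (Nat.card (cent x)).Coprime (cent y).index :=
    Nat.coprime_of_dvd fun s hs h1 h2 => S.not_dvd_cent H hx (e ▸ (mem_sig hs).2 h2) h1
  refine hcop.dvd_of_dvd_mul_right ?_
  rw [Subgroup.card_mul_index]
  exact Subgroup.card_subgroup_dvd_card _

theorem cent_eq_of_le {x y : G} (hx : x ≠ 1) (hy : y ≠ 1) (h : cent x ≤ cent y) :
    cent x = cent y :=
  Subgroup.eq_of_le_of_card_ge h
    (Nat.dvd_antisymm (S.card_cent_dvd H hx (S.sig_eq_of_le hy hx h).symm)
      (S.card_cent_dvd H hy (S.sig_eq_of_le hy hx h))).ge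

theorem cent_eq_of_commute {x y : G} (hx : x ≠ 1) (hy : y ≠ 1) (hc : Commute x y)
    (hcop : (orderOf x).Coprime (orderOf y)) : cent x = cent y := by
  have hxy := Ito7.mul_ne_one_of_coprime hx hcop
  rw [← S.cent_eq_of_le H hxy hx ((cent_mul hc hcop).le.trans inf_le_left),
    S.cent_eq_of_le H hxy hy ((cent_mul hc hcop).le.trans inf_le_right)]

theorem commute_cent {z : G} {p q : ℕ} (hp : p.Prime) (hz : orderOf z = p) (hq : q.Prime)
    (hne : q ≠ p) (hd : q ∣ Nat.card (cent z)) {g w : G} (hg : g ∈ cent z) (hw : w ∈ cent z) :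
    Commute g w := by
  haveI := Fact.mk hq
  have hz1 : z ≠ 1 := ne_one_of_prime_order (hz.symm ▸ hp)
  obtain ⟨y, hy⟩ := exists_prime_orderOf_dvd_card' q hd
  rw [← Subgroup.orderOf_coe] at hy
  have hy1 : (y : G) ≠ 1 := ne_one_of_prime_order (hy.symm ▸ hq)
  have hzy : cent z = cent (y : G) := S.cent_eq_of_commute H hz1 hy1 (mem_cent.1 y.2).symm
    (by rw [hz, hy]; exact (Nat.coprime_primes hp hq).2 hne.symm)
  by_cases hw1 : w = 1
  · rw [hw1]; exact Commute.one_right g
  obtain ⟨k, hk⟩ := exists_prime_power hw1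
  have hv1 := ne_one_of_prime_order hk
  have hv : w ^ k ∈ cent z := pow_mem hw k
  have hvz : cent (w ^ k) = cent z := by
    by_cases e : orderOf (w ^ k) = p
    · rw [hzy]
      refine S.cent_eq_of_commute H hv1 hy1 (mem_cent.1 (hzy ▸ hv)) ?_
      rw [e, hy]; exact (Nat.coprime_primes hp hq).2 hne.symm
    · refine S.cent_eq_of_commute H hv1 hz1 (mem_cent.1 hv) ?_
      rw [hz]; exact (Nat.coprime_primes hk hp).2 e
  have hwc : cent w = cent z := (S.cent_eq_of_le H hw1 hv1 (cent_le_pow w k)).trans hvz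
  exact mem_cent.1 (hwc.symm ▸ hg)

end Disjoint

/-- Only three primes divide the order. -/
theorem primeFactors_card : (Nat.card G).primeFactors.card = 3 := by
  classical
  refine le_antisymm ?_ S.two_lt_card_primeFactors
  by_contra! hn
  haveI := S.simple
  obtain ⟨z, hz, hz2⟩ := exists_central_prime Nat.prime_two S.two_dvd_card
  have hz1 : z ≠ 1 := ne_one_of_prime_order (hz.symm ▸ Nat.prime_two)
  obtain ⟨a, b, hab, hT⟩ := Finset.card_eq_two.1 (S.sig_card hz1)
  have hai : a ∈ sig z := by rw [hT]; simp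
  have hbi : b ∈ sig z := by rw [hT]; simp
  have ha := Nat.prime_of_mem_primeFactors hai
  have hb := Nat.prime_of_mem_primeFactors hbi
  have had : a ∣ Nat.card G := Nat.dvd_of_mem_primeFactors (sig_subset_card z hai)
  have hbd : b ∣ Nat.card G := Nat.dvd_of_mem_primeFactors (sig_subset_card z hbi)
  have ha2 : a ≠ 2 := fun e => hz2 (e ▸ (mem_sig ha).1 hai)
  have hb2 : b ≠ 2 := fun e => hz2 (e ▸ (mem_sig hb).1 hbi)
  obtain ⟨r, hr, hrn⟩ : ∃ r ∈ (Nat.card G).primeFactors, r ∉ ({2, a, b} : Finset ℕ) := by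
    refine Finset.exists_mem_notMem_of_card_lt_card ?_
    exact lt_of_le_of_lt Finset.card_le_three hn
  obtain ⟨hr2, hra, hrb⟩ : r ≠ 2 ∧ r ≠ a ∧ r ≠ b := by simpa using hrn
  have hrp := Nat.prime_of_mem_primeFactors hr
  have hrd := Nat.dvd_of_mem_primeFactors hr
  -- elements of order prime to `a`, `b` have type `{a, b}`
  have t_odd : ∀ s, s.Prime → s ≠ 2 → s ≠ a → s ≠ b → ∀ v : G, orderOf v = s →
      sig v = {a, b} := fun s hs h2 h3 h4 v hv => by
    rw [← hT]
    exact S.sig_of_full_prime hs hz1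
      (by rw [hz]; exact (Nat.coprime_primes Nat.prime_two hs).2 h2.symm)
      (by rw [hT]; simp [h3, h4]) hv
  haveI := Fact.mk hrp
  obtain ⟨v, hv⟩ := exists_prime_orderOf_dvd_card' r hrd
  have hv1 : v ≠ 1 := ne_one_of_prime_order (hv.symm ▸ hrp)
  have hvs := t_odd r hrp hr2 hra hrb v hv
  have t_ab : ∀ s, s.Prime → s ≠ a → s ≠ b → ∀ w : G, orderOf w = s → sig w = {a, b} := by
    intro s hs h3 h4 w hw
    by_cases h2 : s = 2
    · subst h2
      rw [← hvs]
      exact S.sig_of_full_prime hs hv1 (by rw [hv]; exact (Nat.coprime_primes hrp hs).2 hr2)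
        (by rw [hvs]; simp [ha2.symm, hb2.symm]) hw
    · exact t_odd s hs h2 h3 h4 w hw
  -- a central element for `a`
  obtain ⟨u, hu, hua⟩ := exists_central_prime ha had
  have hu1 : u ≠ 1 := ne_one_of_prime_order (hu.symm ▸ ha)
  have hua' : a ∉ sig u := fun h => hua ((mem_sig ha).1 h)
  have hmem : ∀ s, s.Prime → s ∣ Nat.card G → s ≠ a → s ≠ b → s ∈ sig u := by
    intro s hs hsd h3 h4
    by_contra hns
    haveI := Fact.mk hs
    obtain ⟨w, hw⟩ := exists_prime_orderOf_dvd_card' s hsd
    have h := S.sig_of_full_prime hs hu1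
      (by rw [hu]; exact (Nat.coprime_primes ha hs).2 h3.symm) hns hw
    rw [t_ab s hs h3 h4 w hw] at h
    exact hua' (h ▸ Finset.mem_insert_self a {b})
  have hsu : sig u = {2, r} := by
    refine (Finset.eq_of_subset_of_card_le ?_ ?_).symm
    · simp only [Finset.insert_subset_iff, Finset.singleton_subset_iff]
      exact ⟨hmem 2 Nat.prime_two S.two_dvd_card ha2.symm hb2.symm, hmem r hrp hrd hra hrb⟩
    · rw [S.sig_card hu1, Finset.card_pair hr2.symm]
  have hpi : ∀ s, s.Prime → s ∣ Nat.card G → s = 2 ∨ s = r ∨ s = a ∨ s = b := by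
    intro s hs hsd
    by_contra! h
    have := hmem s hs hsd h.2.2.1 h.2.2.2
    simp [hsu, h.1, h.2.1] at this
  have t_b : ∀ w : G, orderOf w = b → sig w = {2, r} := fun w hw => by
    rw [← hsu]
    exact S.sig_of_full_prime hb hu1 (by rw [hu]; exact (Nat.coprime_primes ha hb).2 hab)
      (by rw [hsu]; simp [hb2, hrb.symm]) hw
  haveI := Fact.mk hb
  obtain ⟨v', hv'⟩ := exists_prime_orderOf_dvd_card' b hbd
  have t_a : ∀ w : G, orderOf w = a → sig w = {2, r} := fun w hw => by
    rw [← t_b v' hv']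
    exact S.sig_of_full_prime ha (ne_one_of_prime_order (hv'.symm ▸ hb))
      (by rw [hv']; exact (Nat.coprime_primes hb ha).2 hab.symm)
      (by rw [t_b v' hv']; simp [ha2, hra.symm]) hw
  have H : ∀ w : G, (orderOf w).Prime → orderOf w ∉ sig w := by
    intro w hw
    rcases hpi _ hw (orderOf_dvd_natCard w) with e | e | e | e
    · rw [e, t_ab 2 Nat.prime_two ha2.symm hb2.symm w e]; simp [ha2.symm, hb2.symm]
    · rw [e, t_ab r hrp hra hrb w e]; simp [hra, hrb]
    · rw [e, t_a w e]; simp [ha2, hra.symm]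
    · rw [e, t_b w e]; simp [hb2, hrb.symm]
  -- the two abelian centralizers
  have hcz := Subgroup.card_mul_index (cent z)
  have hcu := Subgroup.card_mul_index (cent u)
  have hrz : r ∣ Nat.card (cent z) := by
    rcases hrp.dvd_mul.1 (hcz ▸ hrd) with h | h
    · exact h
    · have := (mem_sig (x := z) hrp).2 h
      rw [hT] at this
      simp [hra, hrb] at this
  have hbu : b ∣ Nat.card (cent u) := by
    rcases hb.dvd_mul.1 (hcu ▸ hbd) with h | h
    · exact h
    · have := (mem_sig (x := u) hb).2 h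
      rw [hsu] at this
      simp [hb2, hrb.symm] at this
  have hcop : (Nat.card (cent z)).Coprime (Nat.card (cent u)) := by
    refine Nat.coprime_of_dvd fun s hs h1 h2 => ?_
    rcases hpi s hs (h1.trans (Subgroup.card_subgroup_dvd_card _)) with e | e | e | e <;> subst e
    · exact S.not_dvd_cent H hu1 (by rw [hsu]; simp) h2
    · exact S.not_dvd_cent H hu1 (by rw [hsu]; simp) h2
    · exact S.not_dvd_cent H hz1 hai h1
    · exact S.not_dvd_cent H hz1 hbi h1
  have hidx : (cent z).index.Coprime (cent u).index := by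
    refine Nat.coprime_of_dvd fun s hs h1 h2 => ?_
    have h1' := (mem_sig hs).2 h1
    have h2' := (mem_sig hs).2 h2
    rw [hT] at h1'
    rw [hsu] at h2'
    simp only [Finset.mem_insert, Finset.mem_singleton] at h1' h2'
    rcases h1' with e | e <;> rcases h2' with e' | e' <;> subst e
    exacts [ha2 e', hra e'.symm, hb2 e', hrb e'.symm]
  have hB : Nat.card (cent u) = (cent z).index := by
    refine Nat.dvd_antisymm (hcop.symm.dvd_of_dvd_mul_left ?_) (hidx.dvd_of_dvd_mul_right ?_)
    · rw [hcz]; exact Subgroup.card_subgroup_dvd_card _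
    · rw [hcu]; exact Subgroup.index_dvd_card _
  have hnil : ∀ {x : G}, (∀ g w : G, g ∈ cent x → w ∈ cent x → Commute g w) →
      Group.IsNilpotent (cent x) := by
    intro x hx
    letI : CommGroup (cent x) :=
      { (inferInstance : Group (cent x)) with
        mul_comm := fun g w => Subtype.ext (hx (g : G) (w : G) g.2 w.2).eq }
    exact CommGroup.isNilpotent
  obtain ⟨g, w, hgw⟩ := S.nonab
  exact hgw (IsSimpleGroup.comm_iff_isSolvable.2 (ThreeSize7.isSolvable_of_card_mul
    (cent z) (cent u)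
    (hnil fun _ _ => S.commute_cent H Nat.prime_two hz hrp hr2 hrz)
    (hnil fun _ _ => S.commute_cent H ha hu hb hab.symm hbu) hcop
    (by rw [hB, hcz])) g w)

end Setup

end Cfsg.Agent.TwoPrime63
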