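import Cfsg.Agent.TwoPrime63.Basic
import Cfsg.Agent.KnownSimple.AutAlternating.Main
import Cfsg.Agent.SubConj42.Card
import Cfsg.Agent.Classification.SmallPSLUnique
import Cfsg.Agent.Lib.LinearGroup.SylowChar

/-!
# The two simple groups with class sizes of at most two prime divisors

Facts about `A₅` and `L₂(8)` used in the reduction: abelian Sylow subgroups, automorphism
group with inner part of prime index and an outer class size with three prime divisors.
-/

set_option autoImplicit false
set_option linter.unusedSectionVars false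
set_option linter.style.haveILetI false

namespace Cfsg.Agent.TwoPrime63

open Agent.Ito7 (cent mem_cent)

universe u v

/-- The relative index in a normal subgroup divides the index. -/
theorem relIndex_dvd {G : Type u} [Group G] [Finite G] (C M : Subgroup G) [M.Normal] :
    C.relIndex M ∣ C.index := by
  have hd : M.relIndex C ∣ M.index := Subgroup.relIndex_dvd_index_of_normal M C
  obtain ⟨k, hk⟩ := hd
  have h1 := Subgroup.relIndex_mul_index (inf_le_left : M ⊓ C ≤ M)
  have h2 := Subgroup.relIndex_mul_index (inf_le_right : M ⊓ C ≤ C)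
  rw [Subgroup.inf_relIndex_left] at h1
  rw [Subgroup.inf_relIndex_right, ← h1, hk, mul_left_comm] at h2
  exact ⟨k, Nat.eq_of_mul_eq_mul_left (Nat.pos_of_ne_zero Subgroup.index_ne_zero_of_finite) h2⟩

theorem dvd_index_of_map {G : Type u} [Group G] [Finite G] {H : Type v} [Group H] {f : G →* H}
    (hf : Function.Surjective f) (x : G) : (cent (f x)).index ∣ (cent x).index := by
  refine dvd_trans (Subgroup.index_dvd_of_le ?_) (Subgroup.index_map_dvd (cent x) hf)
  rintro _ ⟨g, hg, rfl⟩
  exact mem_cent.2 ((mem_cent.1 hg).map f)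

theorem ClassTwo.of_surjective {G : Type u} [Group G] [Finite G] {H : Type v} [Group H]
    (h : ClassTwo G) {f : G →* H} (hf : Function.Surjective f) : ClassTwo H := fun y => by
  obtain ⟨x, rfl⟩ := hf y
  exact le_trans (Finset.card_le_card (Nat.primeFactors_mono (dvd_index_of_map hf x)
    Subgroup.index_ne_zero_of_finite)) (h x)

/-- Three prime divisors of a class size contradict the hypothesis. -/
theorem false_of_three {G : Type u} [Group G] [Finite G] (h : ClassTwo G) {x : G} {a b c : ℕ}
    (ha : a.Prime) (hb : b.Prime) (hc : c.Prime) (hab : a ≠ b) (hac : a ≠ c) (hbc : b ≠ c)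
    (da : a ∣ (cent x).index) (db : b ∣ (cent x).index) (dc : c ∣ (cent x).index) : False := by
  have hsub : ({a, b, c} : Finset ℕ) ⊆ sig x := by
    intro r hr
    simp only [Finset.mem_insert, Finset.mem_singleton] at hr
    rcases hr with rfl | rfl | rfl
    exacts [(mem_sig ha).2 da, (mem_sig hb).2 db, (mem_sig hc).2 dc]
  have h3 : ({a, b, c} : Finset ℕ).card = 3 := by
    rw [Finset.card_insert_of_notMem (by simp [hab, hac]),
      Finset.card_insert_of_notMem (by simp [hbc]), Finset.card_singleton]
  have := (Finset.card_le_card hsub).trans (h x)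
  omega

/-- The facts needed about a simple model. -/
structure Nice (M : Type) [Group M] [Finite M] : Prop where
  simple : IsSimpleGroup M
  nonab : ∃ a b : M, a * b ≠ b * a
  sylow : ∀ (l : ℕ) [Fact l.Prime] (P : Subgroup M), IsPGroup l P →
    ∀ a ∈ P, ∀ b ∈ P, Commute a b
  inner : (MulAut.conj : M →* MulAut M).range.index.Prime
  bad : ¬ ClassTwo (MulAut M)

theorem conj_injective {M : Type} [Group M] [IsSimpleGroup M] (h : ∃ a b : M, a * b ≠ b * a) :
    Function.Injective (MulAut.conj : M →* MulAut M) := by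
  refine (MonoidHom.ker_eq_bot_iff _).1 ?_
  refine ((MonoidHom.normal_ker _).eq_bot_or_eq_top).resolve_right fun ht => ?_
  obtain ⟨a, b, hab⟩ := h
  refine hab ?_
  have ha : MulAut.conj a = 1 := (ht ▸ Subgroup.mem_top a :)
  have := DFunLike.congr_fun ha b
  rw [MulAut.conj_apply, MulAut.one_apply] at this
  exact mul_inv_eq_iff_eq_mul.1 this

theorem inner_index {M : Type} [Group M] [Finite M] [IsSimpleGroup M]
    (h : ∃ a b : M, a * b ≠ b * a) {c d : ℕ} (hM : Nat.card M = c) (hc : 0 < c)
    (hA : Nat.card (MulAut M) = d * c) :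
    (MulAut.conj : M →* MulAut M).range.index = d := by
  have h2 := (MulAut.conj : M →* MulAut M).range.index_mul_card
  rw [← Nat.card_congr (MonoidHom.ofInjective (conj_injective h)).toEquiv, hA, hM] at h2
  exact Nat.eq_of_mul_eq_mul_right hc h2

/-- A subgroup of order `l`, `l²` or `1` is abelian. -/
theorem comm_of_small {M : Type} [Group M] [Finite M] {l n : ℕ} [hl : Fact l.Prime]
    (hn : Nat.card M = n) (hsmall : ¬ l ^ 3 ∣ n) (P : Subgroup M) (hP : IsPGroup l P) :
    ∀ a ∈ P, ∀ b ∈ P, Commute a b := by
  obtain ⟨k, hk⟩ := IsPGroup.iff_card.1 hP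
  have hk2 : k ≤ 2 := by
    by_contra h
    exact hsmall (((pow_dvd_pow l (show 3 ≤ k by omega)).trans (hk ▸ dvd_rfl)).trans
      (hn ▸ P.card_subgroup_dvd_card))
  intro a ha b hb
  have key : (⟨a, ha⟩ : P) * ⟨b, hb⟩ = ⟨b, hb⟩ * ⟨a, ha⟩ := by
    interval_cases k
    · haveI : Subsingleton P := (Nat.card_eq_one_iff_unique.1 (by simpa using hk)).1
      exact Subsingleton.elim _ _
    · haveI : IsCyclic P := isCyclic_of_prime_card (p := l) (by simpa using hk)
      exact IsCyclic.commGroup.mul_comm _ _
    · exact (IsPGroup.commutative_of_card_eq_prime_sq hk) _ _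
  exact congrArg Subtype.val key

section Five

theorem card_a5 : Nat.card (alternatingGroup (Fin 5)) = 60 := by
  rw [Nat.card_eq_fintype_card]; decide +kernel

theorem nonab_a5 : ∃ a b : alternatingGroup (Fin 5), a * b ≠ b * a := by decide +kernel

theorem nice_a5 : Nice (alternatingGroup (Fin 5)) where
  simple := alternatingGroup.isSimpleGroup_five
  nonab := nonab_a5
  sylow l hl P hP := comm_of_small card_a5 (fun h3 => by
    have h' : l ∣ 60 := (dvd_pow_self l three_ne_zero).trans h3
    have hle : l ≤ 3 := by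
      by_contra hlt
      have := Nat.le_of_dvd (by norm_num) h3
      have : 4 ^ 3 ≤ l ^ 3 := Nat.pow_le_pow_left (by omega) 3
      omega
    have := hl.out.two_le
    interval_cases l <;> norm_num at h3) P hP
  inner := by
    haveI := alternatingGroup.isSimpleGroup_five
    rw [inner_index nonab_a5 card_a5 (by norm_num) (d := 2)]
    · exact Nat.prime_two
    rw [← Nat.card_congr (MulEquiv.ofBijective _
      (KnownSimple.AutAlt.bijective_conjNormal (n := 5) (by norm_num) (by norm_num))).toEquiv,
      Nat.card_perm, Nat.card_fin]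
    rfl
  bad hB := by
    let e : Equiv.Perm (Fin 5) ≃* MulAut (alternatingGroup (Fin 5)) := MulEquiv.ofBijective _
      (KnownSimple.AutAlt.bijective_conjNormal (n := 5) (by norm_num) (by norm_num))
    haveI : Finite (MulAut (alternatingGroup (Fin 5))) := Finite.of_equiv _ e.toEquiv
    have hP := hB.of_surjective (f := e.symm.toMonoidHom) e.symm.surjective
    let c : Equiv.Perm (Fin 5) := Equiv.swap 0 1 * Equiv.swap 1 2 * Equiv.swap 2 3
    have h4 : Nat.card (cent c) = 4 := by
      rw [Nat.card_congr (Equiv.subtypeEquivRight (q := fun g => g * c = c * g)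
        fun g => mem_cent (x := c) (g := g)), Nat.card_eq_fintype_card]
      decide +kernel
    have h30 : (cent c).index = 30 := by
      have h := (cent c).index_mul_card
      rw [h4, Nat.card_perm, Nat.card_fin, show Nat.factorial 5 = 120 from rfl] at h
      omega
    exact false_of_three hP (x := c) Nat.prime_two Nat.prime_three Nat.prime_five (by norm_num)
      (by norm_num) (by norm_num) (by rw [h30]; norm_num) (by rw [h30]; norm_num)
      (by rw [h30]; norm_num)

end Five

section Eight

open Matrix

local notation "𝔽" => GaloisField 2 3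
local notation "K8" => Matrix.SpecialLinearGroup (Fin 2) (GaloisField 2 3)
local notation "L8" => Matrix.ProjectiveSpecialLinearGroup (Fin 2) (GaloisField 2 3)

theorem card_field : Nat.card 𝔽 = 8 := GaloisField.card 2 3 (by norm_num)

theorem card_k8 : Nat.card K8 = 504 := by rw [LinearGroup.card_SL_two, card_field]; norm_num

theorem center_k8 : Subgroup.center K8 = ⊥ :=
  Subgroup.eq_bot_of_card_eq _ (by
    rw [LinearGroup.card_center_SL, Fintype.card_fin, card_field]; norm_num)

/-- `SL₂(8) = L₂(8)`. -/
noncomputable def k8Equiv : K8 ≃* L8 :=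
  MulEquiv.ofBijective (QuotientGroup.mk' (Subgroup.center K8))
    ⟨(MonoidHom.ker_eq_bot_iff _).1 (by rw [QuotientGroup.ker_mk', center_k8]),
      QuotientGroup.mk'_surjective _⟩

theorem card_l8 : Nat.card L8 = 504 := by rw [← Nat.card_congr k8Equiv.toEquiv, card_k8]

theorem simple_l8 : IsSimpleGroup L8 := by
  letI := Fintype.ofFinite 𝔽
  exact Classification.isSimpleGroup_psl_two 𝔽 (by rw [← Nat.card_eq_fintype_card, card_field]; norm_num)

theorem nonab_l8 : ∃ a b : L8, a * b ≠ b * a := by
  haveI := simple_l8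
  by_contra h
  push Not at h
  letI : CommGroup L8 := { (inferInstance : Group L8) with mul_comm := h }
  have hp : (Nat.card L8).Prime := IsSimpleGroup.prime_card
  rw [card_l8] at hp
  norm_num at hp

theorem two_k8 (P : Subgroup K8) (hP : IsPGroup 2 P) : ∀ g ∈ P, g * g = 1 := by
  haveI := Fact.mk Nat.prime_two
  obtain ⟨Q, hQ⟩ := hP.exists_le_sylow
  obtain ⟨v, hv, hvQ⟩ := LinearGroup.exists_sylow_eq_stabilizer (F := 𝔽) 2 Q
  intro g hg
  have hgv : (g : Matrix (Fin 2) (Fin 2) 𝔽) *ᵥ v = v := by
    have : g ∈ MulAction.stabilizer K8 v := hvQ ▸ hQ hg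
    exact MulAction.mem_stabilizer_iff.1 this
  set A : Matrix (Fin 2) (Fin 2) 𝔽 := (g : Matrix (Fin 2) (Fin 2) 𝔽) with hA
  have h0 : (A - 1).det = 0 := Matrix.exists_mulVec_eq_zero_iff.1
    ⟨v, hv, by rw [Matrix.sub_mulVec, hgv, Matrix.one_mulVec, sub_self]⟩
  have h1 : A.det = 1 := g.2
  rw [Matrix.det_fin_two] at h0 h1
  simp only [Matrix.sub_apply, Matrix.one_apply_eq, Matrix.one_apply_ne (show (0 : Fin 2) ≠ 1 by decide),
    Matrix.one_apply_ne (show (1 : Fin 2) ≠ 0 by decide), sub_zero] at h0
  have h2 : (2 : 𝔽) = 0 := CharP.cast_eq_zero 𝔽 2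
  have ht : A 0 0 + A 1 1 = 0 := by linear_combination h1 - h0 + h2
  apply Subtype.ext
  show A * A = 1
  ext i j
  fin_cases i <;> fin_cases j <;> simp [Matrix.mul_apply, Fin.sum_univ_two]
  · linear_combination (A 0 0) * ht - h1 - h2
  · linear_combination (A 0 1) * ht
  · linear_combination (A 1 0) * ht
  · linear_combination (A 1 1) * ht - h1 - h2

/-- The Frobenius automorphism of `SL₂(8)`. -/
noncomputable def frobAut : MulAut K8 :=
  MulEquiv.ofBijective (Matrix.SpecialLinearGroup.map (frobenius 𝔽 2))
    (Finite.injective_iff_bijective.1 fun a b h => Subtype.ext (Matrix.ext fun i j =>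
      frobenius_inj 𝔽 2 (congrFun (congrFun (congrArg Subtype.val h) i) j)))

theorem frobAut_apply (g : K8) (i j : Fin 2) :
    (frobAut g : Matrix (Fin 2) (Fin 2) 𝔽) i j = (g : Matrix (Fin 2) (Fin 2) 𝔽) i j ^ 2 := rfl

theorem conj_k8_injective : Function.Injective (MulAut.conj : K8 →* MulAut K8) := by
  refine (MonoidHom.ker_eq_bot_iff _).1 (le_bot_iff.1 (le_trans ?_ center_k8.le))
  intro a ha
  refine Subgroup.mem_center_iff.2 fun b => ?_
  have := DFunLike.congr_fun (MonoidHom.mem_ker.1 ha) b
  rw [MulAut.conj_apply, MulAut.one_apply] at this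
  exact (mul_inv_eq_iff_eq_mul.1 this).symm

theorem range_conj_normal (M : Type) [Group M] : (MulAut.conj : M →* MulAut M).range.Normal := by
  constructor
  rintro _ ⟨g, rfl⟩ ψ
  refine ⟨ψ g, MulEquiv.ext fun y => ?_⟩
  simp [MulAut.mul_apply, MulAut.conj_apply, map_mul, map_inv]

/-- The subfield subgroup `SL₂(2)`. -/
noncomputable def sub2 : Matrix.SpecialLinearGroup (Fin 2) (ZMod 2) →* K8 :=
  Matrix.SpecialLinearGroup.map (algebraMap (ZMod 2) 𝔽)

theorem sub2_injective : Function.Injective sub2 := fun a b h =>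
  Subtype.ext (Matrix.ext fun i j => (algebraMap (ZMod 2) 𝔽).injective
    (congrFun (congrFun (congrArg Subtype.val h) i) j))

theorem mem_range_sub2 {g : K8} : g ∈ sub2.range ↔ frobAut g = g := by
  constructor
  · rintro ⟨a, rfl⟩
    refine Subtype.ext (Matrix.ext fun i j => ?_)
    rw [frobAut_apply]
    show algebraMap (ZMod 2) 𝔽 (a.1 i j) ^ 2 = algebraMap (ZMod 2) 𝔽 (a.1 i j)
    rw [← map_pow]
    exact congrArg _ (ZMod.pow_card _)
  · intro h
    have h01 : ∀ i j, ∃ z : ZMod 2, algebraMap (ZMod 2) 𝔽 z = (g : Matrix (Fin 2) (Fin 2) 𝔽) i j := by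
      intro i j
      have hx := frobAut_apply g i j
      rw [h] at hx
      rcases eq_or_ne ((g : Matrix (Fin 2) (Fin 2) 𝔽) i j) 0 with h0 | h0
      · exact ⟨0, by rw [h0, map_zero]⟩
      · exact ⟨1, by rw [map_one]; exact mul_left_cancel₀ h0 (by rw [mul_one, ← sq]; exact hx)⟩
    choose z hz using h01
    let A : Matrix (Fin 2) (Fin 2) (ZMod 2) := Matrix.of z
    have hA : (algebraMap (ZMod 2) 𝔽).mapMatrix A = g.1 := Matrix.ext hz
    refine ⟨⟨A, (algebraMap (ZMod 2) 𝔽).injective ?_⟩, Subtype.ext hA⟩
    rw [RingHom.map_det, hA, map_one]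
    exact g.2

theorem relIndex_frob :
    (cent frobAut).relIndex (MulAut.conj : K8 →* MulAut K8).range = 84 := by
  have he : cent frobAut ⊓ (MulAut.conj : K8 →* MulAut K8).range =
      sub2.range.map MulAut.conj := by
    ext ψ
    have key : ∀ g : K8, Commute (MulAut.conj g) frobAut ↔ frobAut g = g := by
      intro g
      have e : frobAut * MulAut.conj g = MulAut.conj (frobAut g) * frobAut :=
        MulEquiv.ext fun y => by simp [MulAut.mul_apply, MulAut.conj_apply, map_mul, map_inv]
      rw [Commute, SemiconjBy, e, mul_left_inj]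
      exact ⟨fun h => (conj_k8_injective h).symm, fun h => by rw [h]⟩
    constructor
    · rintro ⟨hc, g, rfl⟩
      exact ⟨g, mem_range_sub2.2 ((key g).1 (mem_cent.1 hc)), rfl⟩
    · rintro ⟨g, hg, rfl⟩
      exact ⟨mem_cent.2 ((key g).2 (mem_range_sub2.1 hg)), g, rfl⟩
  set I := (MulAut.conj : K8 →* MulAut K8).range with hI
  have hcard : Nat.card (cent frobAut ⊓ I : Subgroup (MulAut K8)) = 6 := by
    rw [he, Subgroup.card_map_of_injective conj_k8_injective,
      ← Nat.card_congr (MonoidHom.ofInjective sub2_injective).toEquiv,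
      LinearGroup.card_SL_two, Nat.card_zmod]
    norm_num
  have h := Subgroup.relIndex_mul_relIndex (⊥ : Subgroup (MulAut K8)) (cent frobAut ⊓ I) I bot_le
    inf_le_right
  rw [Subgroup.relIndex_bot_left, Subgroup.relIndex_bot_left, Subgroup.inf_relIndex_right, hcard,
    ← Nat.card_congr (MonoidHom.ofInjective conj_k8_injective).toEquiv, card_k8] at h
  omega

theorem nice_l8 : Nice L8 where
  simple := simple_l8
  nonab := nonab_l8
  sylow l hl P hP := by
    rcases eq_or_ne l 2 with rfl | h2
    · intro a ha b hb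
      have hinj : Function.Injective k8Equiv.symm.toMonoidHom := k8Equiv.symm.injective
      have hP' := hP.map k8Equiv.symm.toMonoidHom
      have e2 : ∀ x ∈ P, x * x = 1 := fun x hx => hinj (by
        rw [map_mul, map_one]; exact two_k8 _ hP' _ ⟨x, hx, rfl⟩)
      have i : ∀ x ∈ P, x⁻¹ = x := fun x hx => inv_eq_of_mul_eq_one_right (e2 x hx)
      show a * b = b * a
      have := i _ (mul_mem ha hb)
      rwa [_root_.mul_inv_rev, i a ha, i b hb, eq_comm] at this
    · refine comm_of_small card_l8 (fun h3 => ?_) P hP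
      have hle : l ≤ 7 := by
        by_contra hlt
        have := Nat.le_of_dvd (by norm_num) h3
        have : 8 ^ 3 ≤ l ^ 3 := Nat.pow_le_pow_left (by omega) 3
        omega
      have := hl.out.two_le
      interval_cases l <;> first | exact absurd rfl h2 | norm_num at h3
  inner := by
    haveI := simple_l8
    letI := Fintype.ofFinite 𝔽
    rw [inner_index nonab_l8 card_l8 (by norm_num) (d := 3)]
    · exact Nat.prime_three
    rw [SubConj42.card_mulAut_psl (F := 𝔽) (f := 3) (by norm_num)
      (by rw [← Nat.card_eq_fintype_card, card_field]; norm_num),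
      ← Nat.card_congr (MonoidHom.ofInjective (conj_injective nonab_l8)).toEquiv, card_l8]
  bad hB := by
    let e : MulAut L8 ≃* MulAut K8 := MulAut.congr k8Equiv.symm
    haveI : Finite (MulAut L8) :=
      Finite.of_injective (fun f : MulAut L8 => (f : L8 → L8)) DFunLike.coe_injective
    haveI : Finite (MulAut K8) :=
      Finite.of_injective (fun f : MulAut K8 => (f : K8 → K8)) DFunLike.coe_injective
    have hK : ClassTwo (MulAut K8) := hB.of_surjective (f := e.toMonoidHom) e.surjective
    haveI := range_conj_normal K8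
    have hd : 84 ∣ (cent frobAut).index := relIndex_frob ▸ relIndex_dvd _ _
    exact false_of_three hK (x := frobAut) Nat.prime_two Nat.prime_three (show Nat.Prime 7 by norm_num)
      (by norm_num) (by norm_num) (by norm_num) (dvd_trans (by norm_num) hd)
      (dvd_trans (by norm_num) hd) (dvd_trans (by norm_num) hd)

end Eight

end Cfsg.Agent.TwoPrime63
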