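import Cfsg.Agent.TwoPrime63.Tri
import Cfsg.Agent.TwoPrime63.Defs

/-!
# Class sizes with at most two prime divisors: Sylow subgroups with automizer of order two
-/

set_option autoImplicit false
set_option linter.unusedSectionVars false
set_option linter.style.haveILetI false

namespace Cfsg.Agent.TwoPrime63

open Agent.Ito7 (cent mem_cent)
open Subgroup (centralizer normalizer)

universe u

variable {G : Type u} [Group G] [Finite G]

namespace Setup

variable (S : Setup G)
include S

/-- With an abelian Sylow subgroup whose automizer has order two, the elements of the normalizer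
outside the centralizer invert it. -/
theorem inverts {r : ℕ} [Fact r.Prime] (P : Sylow r G)
    (hab : ∀ x ∈ (P : Subgroup G), ∀ y ∈ (P : Subgroup G), x * y = y * x)
    (he : autOrder P = 2) {n : G} (hn : n ∈ normalizer ((P : Subgroup G) : Set G))
    (hnc : n ∉ centralizer ((P : Subgroup G) : Set G)) {x : G} (hx : x ∈ (P : Subgroup G)) :
    n * x * n⁻¹ = x⁻¹ := by
  haveI := S.simple
  haveI : IsMulCommutative (P : Subgroup G) :=
    ⟨⟨fun a b => Subtype.ext (hab _ a.2 _ b.2)⟩⟩
  have hcen : ∀ m, m ∈ centralizer ((P : Subgroup G) : Set G) → ∀ y ∈ (P : Subgroup G),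
      m * y * m⁻¹ = y := fun m hm y hy => by
    rw [← Subgroup.mem_centralizer_iff.1 hm y hy, mul_inv_cancel_right]
  -- the fixed points of `n` are trivial
  have hfix : ∀ w ∈ (P : Subgroup G), n * w * n⁻¹ = w → w = 1 := by
    intro w hw hnw
    have hall : ∀ m ∈ normalizer ((P : Subgroup G) : Set G), ∀ k : ℕ,
        m * w ^ k * m⁻¹ = w ^ k := by
      intro m hm k
      by_cases hmc : m ∈ centralizer ((P : Subgroup G) : Set G)
      · exact hcen m hmc _ (pow_mem hw k)
      have hidx : ((centralizer ((P : Subgroup G) : Set G)).subgroupOf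
          (normalizer ((P : Subgroup G) : Set G))).index = 2 := he
      have hprod : (⟨n, hn⟩ : normalizer ((P : Subgroup G) : Set G))⁻¹ * ⟨m, hm⟩ ∈
          (centralizer ((P : Subgroup G) : Set G)).subgroupOf _ := by
        rw [Subgroup.mul_mem_iff_of_index_two hidx, inv_mem_iff]
        simp only [Subgroup.mem_subgroupOf]
        exact iff_of_false hnc hmc
      have h := hcen (n⁻¹ * m) hprod _ (pow_mem hw k)
      calc m * w ^ k * m⁻¹ = n * ((n⁻¹ * m) * w ^ k * (n⁻¹ * m)⁻¹) * n⁻¹ := by group
        _ = n * w ^ k * n⁻¹ := by rw [h]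
        _ = (n * w * n⁻¹) ^ k := conj_pow.symm
        _ = w ^ k := by rw [hnw]
    have key : ∀ (k : ℕ) (g : G), g⁻¹ * w ^ k * g ∈ (P : Subgroup G) →
        g⁻¹ * w ^ k * g = w ^ k := by
      intro k g hg
      obtain ⟨m, hm, hmw⟩ := P.conj_eq_normalizer_conj_of_mem (w ^ k) g (pow_mem hw k) hg
      rw [hmw]
      have := hall m hm k
      calc m⁻¹ * w ^ k * m = m⁻¹ * (m * w ^ k * m⁻¹) * m := by rw [this]
        _ = w ^ k := by group
    open scoped IsMulCommutative in
    set V : G →* (P : Subgroup G) := MonoidHom.transfer (MonoidHom.id _) with hV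
    have hVw : ((V w : (P : Subgroup G)) : G) = w ^ (P : Subgroup G).index := by
      rw [hV, MonoidHom.transfer_eq_pow _ w key]
      rfl
    rcases V.normal_ker.eq_bot_or_eq_top with hb | ht
    · exfalso
      obtain ⟨a, b, hne⟩ := S.nonab
      exact hne ((MonoidHom.ker_eq_bot_iff V).1 hb (by
        rw [map_mul, map_mul]
        exact Subtype.ext (hab _ (V a).2 _ (V b).2)))
    · have h0 : V w = 1 := MonoidHom.mem_ker.1 (ht ▸ Subgroup.mem_top w)
      rw [h0] at hVw
      obtain ⟨i, hi⟩ := (IsPGroup.iff_orderOf.1 P.isPGroup') ⟨w, hw⟩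
      rw [Subgroup.orderOf_mk] at hi
      have h1 : orderOf w ∣ (P : Subgroup G).index := orderOf_dvd_of_pow_eq_one hVw.symm
      rw [hi] at h1
      rcases Nat.eq_zero_or_pos i with rfl | hi0
      · exact orderOf_eq_one_iff.1 (by rw [hi, pow_zero])
      · exact absurd ((dvd_pow_self r hi0.ne').trans h1) P.not_dvd_index
  have hxc : n * x * n⁻¹ ∈ (P : Subgroup G) := (Subgroup.mem_normalizer_iff.1 hn x).1 hx
  have hn2 : n * n ∈ centralizer ((P : Subgroup G) : Set G) := by
    have hidx : ((centralizer ((P : Subgroup G) : Set G)).subgroupOf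
        (normalizer ((P : Subgroup G) : Set G))).index = 2 := he
    exact Subgroup.mul_self_mem_of_index_two hidx ⟨n, hn⟩
  have h := hfix _ (mul_mem hx hxc) (by
    calc n * (x * (n * x * n⁻¹)) * n⁻¹ = (n * x * n⁻¹) * ((n * n) * x * (n * n)⁻¹) := by group
      _ = (n * x * n⁻¹) * x := by rw [hcen _ hn2 x hx]
      _ = x * (n * x * n⁻¹) := hab _ hxc _ hx)
  exact eq_inv_of_mul_eq_one_right h

theorem exists_notMem_centralizer {r : ℕ} (P : Sylow r G) (he : autOrder P = 2) :
    ∃ n, n ∈ normalizer ((P : Subgroup G) : Set G) ∧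
      n ∉ centralizer ((P : Subgroup G) : Set G) := by
  by_contra h
  push Not at h
  rw [autOrder, Subgroup.relIndex_eq_one.2 fun m hm => h m hm] at he
  omega

theorem secHyp {r : ℕ} [Fact r.Prime] (P : Sylow r G) (hr : r ≠ 2) (hd : r ∣ Nat.card G)
    (hab : ∀ x ∈ (P : Subgroup G), ∀ y ∈ (P : Subgroup G), x * y = y * x)
    (he : autOrder P = 2) : SecHyp r (P : Subgroup G) := by
  haveI : IsMulCommutative (P : Subgroup G) :=
    ⟨⟨fun a b => Subtype.ext (hab _ a.2 _ b.2)⟩⟩
  obtain ⟨n₀, hn₀, hn₀c⟩ := S.exists_notMem_centralizer P he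
  refine ⟨Fact.out, hr, P.isPGroup', P.not_dvd_index, P.ne_bot_of_dvd_card hd, hab, ?_, ?_, ?_⟩
  · intro x hx y hy hxy
    obtain ⟨g, rfl⟩ := isConj_iff.1 hxy
    obtain ⟨m, hm, hmw⟩ := P.conj_eq_normalizer_conj_of_mem x g⁻¹ hx (by rwa [inv_inv])
    rw [inv_inv] at hmw
    rw [hmw]
    by_cases hmc : m ∈ centralizer ((P : Subgroup G) : Set G)
    · left
      rw [mul_assoc, Subgroup.mem_centralizer_iff.1 hmc x hx, inv_mul_cancel_left]
    · right
      have := S.inverts P hab he (inv_mem hm) (fun h => hmc (inv_mem_iff.1 h)) hx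
      rwa [inv_inv] at this
  · exact fun x hx => isConj_iff.2 ⟨n₀, S.inverts P hab he hn₀ hn₀c hx⟩
  · intro x hx hx1
    have hPH : (P : Subgroup G) ≤ centralizer ({x} : Set G) := fun y hy =>
      Subgroup.mem_centralizer_singleton_iff.2 (hab y hy x hx)
    set H := centralizer ({x} : Set G) with hH
    let P' : Sylow r H := P.subtype hPH
    have hN : normalizer ((P' : Subgroup H) : Set H) ≤ centralizer ((P' : Subgroup H) : Set H) := by
      intro m hm
      have hmN : (m : G) ∈ normalizer ((P : Subgroup G) : Set G) := by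
        refine Subgroup.mem_normalizer_iff.2 fun y => ⟨fun hy => ?_, fun hy => ?_⟩
        · exact (Subgroup.mem_normalizer_iff.1 hm ⟨y, hPH hy⟩).1 hy
        · have hyH : y ∈ H := by
            have h1 := mul_mem (mul_mem (inv_mem m.2) (hPH hy)) m.2
            simpa [mul_assoc] using h1
          exact (Subgroup.mem_normalizer_iff.1 hm ⟨y, hyH⟩).2 hy
      by_cases hmc : (m : G) ∈ centralizer ((P : Subgroup G) : Set G)
      · exact Subgroup.mem_centralizer_iff.2 fun y hy =>
          Subtype.ext (Subgroup.mem_centralizer_iff.1 hmc y hy)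
      · exfalso
        apply hx1
        have h1 := S.inverts P hab he hmN hmc hx
        rw [Subgroup.mem_centralizer_singleton_iff.1 m.2, mul_inv_cancel_right] at h1
        obtain ⟨i, hi⟩ := (IsPGroup.iff_orderOf.1 P.isPGroup') ⟨x, hx⟩
        rw [Subgroup.orderOf_mk] at hi
        have h2 : orderOf x ∣ 2 := orderOf_dvd_of_pow_eq_one (by
          rw [pow_two]; nth_rw 1 [h1]; exact inv_mul_cancel x)
        rw [hi] at h2
        rcases Nat.eq_zero_or_pos i with rfl | hi0
        · exact orderOf_eq_one_iff.1 (by rw [hi, pow_zero])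
        · exact absurd ((Nat.prime_dvd_prime_iff_eq Fact.out Nat.prime_two).1
            ((dvd_pow_self r hi0.ne').trans h2)) hr
    have hK := MonoidHom.ker_transferSylow_isComplement' P' hN
    have hKr := MonoidHom.not_dvd_card_ker_transferSylow P' hN
    set K := (MonoidHom.transferSylow P' hN).ker
    have hcP : Nat.card (P' : Subgroup H) = Nat.card (P : Subgroup G) :=
      Nat.card_congr (Subgroup.subgroupOfEquivOfLe hPH).toEquiv
    have hiff : ∀ g : H, g ∈ K ↔ ¬ r ∣ orderOf g := by
      intro g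
      constructor
      · intro hg hr'
        exact hKr (hr'.trans ((Subgroup.orderOf_mk g hg).symm ▸ orderOf_dvd_natCard _))
      · intro hg
        obtain ⟨i, hi⟩ := IsPGroup.iff_card.1 P'.isPGroup'
        have h1 : orderOf (QuotientGroup.mk' K g) ∣ r ^ i := by
          refine (orderOf_dvd_natCard _).trans (dvd_of_eq ?_)
          rw [← Subgroup.index_eq_card, hK.symm.index_eq_card, hi]
        have h2 := orderOf_map_dvd (QuotientGroup.mk' K) g
        obtain ⟨j, -, hj⟩ := (Nat.dvd_prime_pow Fact.out).1 h1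
        rcases Nat.eq_zero_or_pos j with rfl | hj0
        · exact (QuotientGroup.eq_one_iff g).1
            (orderOf_eq_one_iff.1 (show orderOf (QuotientGroup.mk' K g) = 1 by rw [hj, pow_zero]))
        · exact absurd ((dvd_pow_self r hj0.ne').trans (hj ▸ h2)) hg
    have hcnt : Nat.card {g : G // g ∈ H ∧ ¬ r ∣ orderOf g} = Nat.card K :=
      Nat.card_congr
        { toFun := fun g => ⟨⟨g.1, g.2.1⟩, (hiff _).2 (by rw [Subgroup.orderOf_mk]; exact g.2.2)⟩
          invFun := fun k => ⟨(k.1 : G), k.1.2, by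
            rw [Subgroup.orderOf_coe]; exact (hiff _).1 k.2⟩
          left_inv := fun g => rfl
          right_inv := fun k => rfl }
    rw [hcnt, ← hcP]
    exact hK.card_mul_card

end Setup

end Cfsg.Agent.TwoPrime63
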