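import Cfsg.Agent.TwoPrime63.Cover

/-!
# Class sizes with at most two prime divisors: three primes

The odd Sylow subgroups are abelian and elements of two different odd prime orders never
commute. If some involution centralizes a full odd Sylow subgroup, the Sylow `2`-subgroups are
nonabelian and the odd automizers have order two or three, one of them two.
-/

set_option autoImplicit false
set_option linter.unusedSectionVars false
set_option linter.style.haveILetI false

namespace Cfsg.Agent.TwoPrime63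

open Agent.Ito7 (cent mem_cent self_mem_cent cent_le_pow)
open Subgroup (centralizer normalizer)

universe u

variable {G : Type u} [Group G] [Finite G]

/-- The order has exactly the prime divisors `2`, `p`, `q`. -/
structure Tri (G : Type u) [Group G] [Finite G] (p q : ℕ) : Prop where
  setup : Setup G
  two : ∀ r : ℕ, r ∈ (Nat.card G).primeFactors ↔ r = 2 ∨ r = p ∨ r = q
  pp : p.Prime
  qp : q.Prime
  p2 : p ≠ 2
  q2 : q ≠ 2
  pq : p ≠ q

theorem mul_lt_of_cover {N a b c A B C : ℕ} (h : N < A + B + C) (ha : a * A = N) (hb : b * B = N)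
    (hc : c * C = N) (ha0 : 0 < a) (hb0 : 0 < b) (hc0 : 0 < c) :
    a * b * c < b * c + a * c + a * b := by
  by_contra hle
  have h1 : (A + B + C) * (a * b * c) = N * (b * c) + N * (a * c) + N * (a * b) := by
    calc (A + B + C) * (a * b * c) = a * A * (b * c) + b * B * (a * c) + c * C * (a * b) := by ring
      _ = _ := by rw [ha, hb, hc]
  have h2 := Nat.mul_lt_mul_of_pos_right h (Nat.mul_pos (Nat.mul_pos ha0 hb0) hc0)
  rw [h1, ← Nat.mul_add, ← Nat.mul_add] at h2
  exact absurd (Nat.mul_le_mul_left N (not_lt.1 hle)) (not_le.2 h2)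

namespace Setup

variable (S : Setup G)
include S

theorem exists_tri (h3 : (Nat.card G).primeFactors.card = 3) : ∃ p q, Tri G p q := by
  obtain ⟨a, b, c, hab, hac, hbc, hπ⟩ := Finset.card_eq_three.1 h3
  have hmem : ∀ r, r ∈ (Nat.card G).primeFactors ↔ r = a ∨ r = b ∨ r = c := fun r => by
    rw [hπ]; simp
  have hpr : ∀ r, r = a ∨ r = b ∨ r = c → r.Prime ∧ r ∣ Nat.card G := fun r hr =>
    ⟨Nat.prime_of_mem_primeFactors ((hmem r).2 hr), Nat.dvd_of_mem_primeFactors ((hmem r).2 hr)⟩
  have h2 : a = 2 ∨ b = 2 ∨ c = 2 := by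
    by_contra hne
    push Not at hne
    have ha := hpr a (Or.inl rfl)
    have hb := hpr b (Or.inr (Or.inl rfl))
    have hc := hpr c (Or.inr (Or.inr rfl))
    haveI := Fact.mk ha.1
    haveI := Fact.mk hb.1
    haveI := Fact.mk hc.1
    obtain ⟨A⟩ := (inferInstance : Nonempty (Sylow a G))
    obtain ⟨B⟩ := (inferInstance : Nonempty (Sylow b G))
    obtain ⟨C⟩ := (inferInstance : Nonempty (Sylow c G))
    have hodd : ∀ d : ℕ, d ∣ Nat.card G → ¬ 2 ∣ d := fun d hd h2 => by
      have := (hmem 2).1 (Nat.mem_primeFactors.2 ⟨Nat.prime_two, h2.trans hd, Nat.card_pos.ne'⟩)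
      omega
    have e1 := S.autOrder_odd_three_le ha.2 A (hodd _ (autOrder_dvd A))
    have e2 := S.autOrder_odd_three_le hb.2 B (hodd _ (autOrder_dvd B))
    have e3 := S.autOrder_odd_three_le hc.2 C (hodd _ (autOrder_dvd C))
    have key := mul_lt_of_cover (S.cover hπ h3 A B C) (autOrder_mul_card A) (autOrder_mul_card B)
      (autOrder_mul_card C) (autOrder_pos A) (autOrder_pos B) (autOrder_pos C)
    nlinarith [Nat.mul_le_mul e1 e2, Nat.mul_le_mul e1 e3, Nat.mul_le_mul e2 e3]
  rcases h2 with rfl | rfl | rfl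
  · exact ⟨b, c, S, hmem, (hpr b (by simp)).1, (hpr c (by simp)).1, hab.symm, hac.symm, hbc⟩
  · exact ⟨a, c, S, fun r => by rw [hmem]; tauto, (hpr a (by simp)).1, (hpr c (by simp)).1, hab,
      hbc.symm, hac⟩
  · exact ⟨a, b, S, fun r => by rw [hmem]; tauto, (hpr a (by simp)).1, (hpr b (by simp)).1, hac,
      hbc, hab⟩

end Setup

namespace Tri

variable {p q : ℕ} (D : Tri G p q)
include D

theorem symm : Tri G q p :=
  ⟨D.setup, fun r => by rw [D.two]; tauto, D.qp, D.pp, D.q2, D.p2, D.pq.symm⟩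

theorem dvd_two : 2 ∣ Nat.card G := Nat.dvd_of_mem_primeFactors ((D.two 2).2 (Or.inl rfl))

theorem dvd_p : p ∣ Nat.card G := Nat.dvd_of_mem_primeFactors ((D.two p).2 (Or.inr (Or.inl rfl)))

theorem dvd_q : q ∣ Nat.card G := D.symm.dvd_p

theorem pi_eq : (Nat.card G).primeFactors = {2, p, q} := by
  ext r; rw [D.two]; simp

theorem pi_card : (Nat.card G).primeFactors.card = 3 := by
  rw [D.pi_eq]
  simp [D.p2.symm, D.q2.symm, D.pq]

theorem prime_cases {r : ℕ} (hr : r.Prime) (hd : r ∣ Nat.card G) : r = 2 ∨ r = p ∨ r = q :=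
  (D.two r).1 (Nat.mem_primeFactors.2 ⟨hr, hd, Nat.card_pos.ne'⟩)

theorem cover_aut [Fact p.Prime] [Fact q.Prime] [Fact (Nat.Prime 2)] (T : Sylow 2 G)
    (P : Sylow p G) (Q : Sylow q G) :
    autOrder T * autOrder P * autOrder Q <
      autOrder P * autOrder Q + autOrder T * autOrder Q + autOrder T * autOrder P :=
  mul_lt_of_cover (D.setup.cover D.pi_eq D.pi_card T P Q) (autOrder_mul_card T)
    (autOrder_mul_card P) (autOrder_mul_card Q) (autOrder_pos T) (autOrder_pos P) (autOrder_pos Q)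

theorem three_le_autOrder_two [Fact (Nat.Prime 2)] (T : Sylow 2 G) : 3 ≤ autOrder T := by
  by_cases hab : ∀ x ∈ (T : Subgroup G), ∀ y ∈ (T : Subgroup G), x * y = y * x
  · refine D.setup.autOrder_odd_three_le D.dvd_two T fun h2 => T.not_dvd_index (h2.trans ?_)
    have hle : (T : Subgroup G) ≤ centralizer ((T : Subgroup G) : Set G) := fun x hx =>
      Subgroup.mem_centralizer_iff.2 fun y hy => hab y hy x hx
    exact (Dvd.intro_left _ (Subgroup.relIndex_mul_relIndex _ _ _ hle
      (Subgroup.centralizer_le_normalizer _))).trans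
      (Subgroup.relIndex_dvd_index_of_le Subgroup.le_normalizer)
  · exact le_trans (by norm_num) (D.setup.sq_le_autOrder T hab)

theorem comm_p [Fact p.Prime] (P : Sylow p G) :
    ∀ x ∈ (P : Subgroup G), ∀ y ∈ (P : Subgroup G), x * y = y * x := by
  by_contra hab
  haveI := Fact.mk D.qp
  haveI := Fact.mk Nat.prime_two
  obtain ⟨T⟩ := (inferInstance : Nonempty (Sylow 2 G))
  obtain ⟨Q⟩ := (inferInstance : Nonempty (Sylow q G))
  have hT := D.three_le_autOrder_two T
  have hP : 9 ≤ autOrder P := by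
    refine le_trans ?_ (D.setup.sq_le_autOrder P hab)
    have := D.pp.two_le
    have := D.p2
    exact le_trans (by norm_num) (Nat.pow_le_pow_left (show 3 ≤ p by omega) 2)
  have hQ := D.setup.autOrder_two_le D.dvd_q Q
  have key := D.cover_aut T P Q
  nlinarith [Nat.mul_le_mul hT hP, Nat.mul_le_mul hT hQ, Nat.mul_le_mul hP hQ,
    Nat.mul_le_mul (Nat.mul_le_mul hT hP) hQ]

/-- Nontrivial elements centralize a full Sylow subgroup for exactly one prime. -/
theorem full_unique {x : G} (hx : x ≠ 1) {r s : ℕ} (hr : r = 2 ∨ r = p ∨ r = q)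
    (hs : s = 2 ∨ s = p ∨ s = q) (h1 : Full r x) (h2 : Full s x) : r = s := by
  by_contra hne
  have hsub : sig x ⊆ ((Nat.card G).primeFactors.erase r).erase s := fun t ht => by
    have htp := Nat.prime_of_mem_primeFactors ht
    exact Finset.mem_erase.2 ⟨fun h => h2 (h ▸ (mem_sig htp).1 ht), Finset.mem_erase.2
      ⟨fun h => h1 (h ▸ (mem_sig htp).1 ht), sig_subset_card x ht⟩⟩
  have hc := Finset.card_le_card hsub
  rw [D.setup.sig_card hx, Finset.card_erase_of_mem
    (Finset.mem_erase.2 ⟨Ne.symm hne, (D.two s).2 hs⟩), Finset.card_erase_of_mem ((D.two r).2 hr),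
    D.pi_card] at hc
  omega

theorem exists_full {x : G} (hx : x ≠ 1) : ∃ r, (r = 2 ∨ r = p ∨ r = q) ∧ Full r x := by
  by_contra h
  push Not at h
  have hsub : (Nat.card G).primeFactors ⊆ sig x := fun t ht => by
    refine (mem_sig (Nat.prime_of_mem_primeFactors ht)).2 ?_
    by_contra hn
    exact h t ((D.two t).1 ht) hn
  have := Finset.card_le_card hsub
  rw [D.pi_card, D.setup.sig_card hx] at this
  omega

theorem full_p {x : G} {i : ℕ} (hx : orderOf x = p ^ i) : Full p x := by
  haveI := Fact.mk D.pp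
  obtain ⟨P, hP⟩ := (IsPGroup.of_card (n := i) (G := Subgroup.zpowers x)
    (by rw [Nat.card_zpowers, hx])).exists_le_sylow
  exact fun h => P.not_dvd_index (h.trans (Subgroup.index_dvd_of_le fun y hy =>
    mem_cent.2 (D.comm_p P y hy x (hP (Subgroup.mem_zpowers x)))))

theorem full_q {x : G} {i : ℕ} (hx : orderOf x = q ^ i) : Full q x := D.symm.full_p hx

omit D in
theorem full_iff_of_sig {x y : G} (h : sig x = sig y) {r : ℕ} (hr : r.Prime) :
    Full r x ↔ Full r y := by
  unfold Full
  rw [← mem_sig hr, ← mem_sig hr, h]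

omit D in
theorem exists_orderOf_prime {H : Subgroup G} {r : ℕ} (hr : r.Prime) (hd : r ∣ Nat.card H) :
    ∃ y : G, y ∈ H ∧ orderOf y = r := by
  haveI := Fact.mk hr
  obtain ⟨⟨y, hy⟩, ho⟩ := exists_prime_orderOf_dvd_card' (G := H) r hd
  exact ⟨y, hy, by rw [← ho, Subgroup.orderOf_mk]⟩

omit D in
theorem ne_one_of_order {y : G} {r : ℕ} (hr : r.Prime) (hy : orderOf y = r) : y ≠ 1 := fun h => by
  rw [h, orderOf_one] at hy
  exact hr.one_lt.ne hy

/-- If `x` centralizes a full Sylow `r`-subgroup, no element of another odd prime order commutes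
with `x`, provided the orders are coprime. -/
theorem not_dvd_cent {x : G} (hx : x ≠ 1) {r s : ℕ} (hr : r = 2 ∨ r = p ∨ r = q)
    (hs : s = p ∨ s = q) (hrs : r ≠ s) (hF : Full r x) (hco : (orderOf x).Coprime s) :
    ¬ s ∣ Nat.card (cent x) := by
  intro hd
  have hsp : s.Prime := by rcases hs with rfl | rfl; exacts [D.pp, D.qp]
  obtain ⟨y, hy, ho⟩ := exists_orderOf_prime hsp hd
  have hsig := (D.setup.sig_commute hx (ne_one_of_order hsp ho) (mem_cent.1 hy).symm
    (by rw [ho]; exact hco)).1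
  have hys : Full s y := by
    rcases hs with rfl | rfl
    · exact D.full_p (i := 1) (by rw [ho, pow_one])
    · exact D.full_q (i := 1) (by rw [ho, pow_one])
  exact hrs (D.full_unique hx hr (Or.inr hs) hF ((full_iff_of_sig hsig hsp).2 hys))

theorem not_dvd_cent_p {x : G} (hx : x ≠ 1) {i : ℕ} (ho : orderOf x = p ^ i) :
    ¬ q ∣ Nat.card (cent x) :=
  D.not_dvd_cent hx (Or.inr (Or.inl rfl)) (Or.inr rfl) D.pq (D.full_p ho)
    (by rw [ho]; exact Nat.Coprime.pow_left i ((Nat.coprime_primes D.pp D.qp).2 D.pq))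

theorem isPGroup_cent_of_full_two {t : G} (ht : orderOf t = 2) (hF : Full 2 t) :
    IsPGroup 2 (cent t) := by
  haveI := Fact.mk Nat.prime_two
  have h : ∀ d : ℕ, d.Prime → d ∣ Nat.card (cent t) → d = 2 := by
    intro d hd hdd
    rcases D.prime_cases hd (hdd.trans (Subgroup.card_subgroup_dvd_card _)) with h | rfl | rfl
    · exact h
    · exact absurd hdd (D.not_dvd_cent (ne_one_of_order Nat.prime_two ht) (Or.inl rfl)
        (Or.inl rfl) D.p2.symm hF (by
          rw [ht]; exact (Nat.coprime_primes Nat.prime_two D.pp).2 D.p2.symm))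
    · exact absurd hdd (D.not_dvd_cent (ne_one_of_order Nat.prime_two ht) (Or.inl rfl)
        (Or.inr rfl) D.q2.symm hF (by
          rw [ht]; exact (Nat.coprime_primes Nat.prime_two D.qp).2 D.q2.symm))
  exact IsPGroup.of_card (n := (Nat.card (cent t)).primeFactorsList.length)
    (Nat.eq_prime_pow_of_unique_prime_dvd Nat.card_pos.ne' fun {d} => h d)

/-- If an involution centralizes no full Sylow `2`-subgroup, the Sylow `2`-subgroups are
nonabelian, so `autOrder T ≥ 4`. -/
theorem four_le_autOrder_two [Fact (Nat.Prime 2)] {z : G} (hz : orderOf z = 2) (hF : ¬ Full 2 z)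
    (T : Sylow 2 G) : 4 ≤ autOrder T := by
  refine le_trans (by norm_num) (D.setup.sq_le_autOrder T fun hab => hF ?_)
  obtain ⟨g, hg⟩ := ThreeSize7.exists_conj_mem Nat.prime_two T.not_dvd_index (u := z) (i := 1)
    (by rw [hz, pow_one])
  intro hd
  refine T.not_dvd_index ?_
  have hle : (T : Subgroup G).map (MulAut.conj g⁻¹).toMonoidHom ≤ cent z := by
    rintro _ ⟨t, ht, rfl⟩
    have hc : Commute t (g * z * g⁻¹) := hab t ht _ hg
    have := hc.map (MulAut.conj g⁻¹).toMonoidHom
    exact mem_cent.2 (by simpa [mul_assoc] using this)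
  refine hd.trans ((Subgroup.index_dvd_of_le hle).trans (dvd_of_eq ?_))
  exact Subgroup.index_map_of_bijective (MulAut.conj g⁻¹).bijective _

theorem autOrder_le_three [Fact p.Prime] [Fact q.Prime] [Fact (Nat.Prime 2)] {z : G}
    (hz : orderOf z = 2) (hF : ¬ Full 2 z) (T : Sylow 2 G) (P : Sylow p G) (Q : Sylow q G) :
    (autOrder P = 2 ∧ autOrder Q = 2) ∨ (autOrder T < 6 ∧
      ((autOrder P = 2 ∧ autOrder Q = 3) ∨ (autOrder P = 3 ∧ autOrder Q = 2))) := by
  have hT := D.four_le_autOrder_two hz hF T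
  have hP := D.setup.autOrder_two_le D.dvd_p P
  have hQ := D.setup.autOrder_two_le D.dvd_q Q
  have key := D.cover_aut T P Q
  have hP3 : autOrder P ≤ 3 := by
    by_contra h
    nlinarith [Nat.mul_le_mul hT (not_le.1 h), Nat.mul_le_mul hT hQ,
      Nat.mul_le_mul (not_le.1 h) hQ, Nat.mul_le_mul (Nat.mul_le_mul hT (not_le.1 h)) hQ]
  have hQ3 : autOrder Q ≤ 3 := by
    by_contra h
    nlinarith [Nat.mul_le_mul hT (not_le.1 h), Nat.mul_le_mul hT hP,
      Nat.mul_le_mul (not_le.1 h) hP, Nat.mul_le_mul (Nat.mul_le_mul hT hP) (not_le.1 h)]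
  interval_cases hp : autOrder P <;> interval_cases hq : autOrder Q <;> simp_all <;> omega

end Tri

end Cfsg.Agent.TwoPrime63
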